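import Groth.Agent.H27CurveSing.Data
import Groth.Agent.H06Wedge.Core
import Groth.Agent.H06Wedge.Series
import Groth.Agent.H06DeltaBC.NormFibre
import Groth.Agent.S7652
import Mathlib

/-! # Branch data at a point of a reduced curve -/

set_option autoImplicit false
set_option linter.style.haveILetI false

universe u

open IsLocalRing
open scoped nonZeroDivisors

namespace Groth.Agent.H27CurveSing

variable {k : Type u} [Field k] [IsAlgClosed k] {B : Type u} [CommRing B] [Algebra k B]

lemma mem_of_mul_mem_pow {R : Type u} [CommRing R] {M : Ideal R} [M.IsMaximal] {n : ℕ} {s x : R}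
    (hs : s ∉ M) (h : s * x ∈ M ^ n) : x ∈ M ^ n :=
  (Ideal.IsMaximal.mul_mem_pow M h).resolve_left hs

lemma exists_mul_sub_one_mem_pow {R : Type u} [CommRing R] {M : Ideal R} [M.IsMaximal] (n : ℕ) {s : R}
    (hs : s ∉ M) : ∃ s', s * s' - 1 ∈ M ^ n := by
  obtain ⟨y, i, hi, hyi⟩ := Ideal.IsMaximal.exists_inv ‹_› hs
  have h : IsCoprime (Ideal.span {s}) M :=
    Ideal.isCoprime_iff_exists.2 ⟨y * s, Ideal.mem_span_singleton.2 (dvd_mul_left _ _), i, hi, hyi⟩
  obtain ⟨a, ha, b, hb, hab⟩ := Ideal.isCoprime_iff_exists.1 (h.pow_right (n := n))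
  obtain ⟨s', rfl⟩ := Ideal.mem_span_singleton'.1 ha
  refine ⟨s', ?_⟩
  rw [show s * s' - 1 = -b by linear_combination hab]
  exact (M ^ n).neg_mem hb

/-- The local rings of a normal finite extension of a one dimensional local ring are valuation rings. -/
lemma isDVR_atPrime {A C : Type u} [CommRing A] [IsLocalRing A] [Ring.KrullDimLE 1 A] [CommRing C] [Algebra A C]
    [Algebra.IsIntegral A C] [IsNoetherianRing C] (M : MaximalSpectrum C) {f : A} (hfCnz : algebraMap A C f ∈ C⁰)
    (hfM : algebraMap A C f ∈ M.asIdeal) [hd : IsDomain (Localization.AtPrime M.asIdeal)]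
    [hic : IsIntegrallyClosed (Localization.AtPrime M.asIdeal)] :
    IsDiscreteValuationRing (Localization.AtPrime M.asIdeal) := by
  let L := Localization.AtPrime M.asIdeal
  haveI : IsDomain L := hd
  haveI : IsIntegrallyClosed L := hic
  haveI : IsNoetherianRing L := IsLocalization.isNoetherianRing M.asIdeal.primeCompl L inferInstance
  have hne : algebraMap C L (algebraMap A C f) ≠ 0 := fun h => by
    obtain ⟨s, hs⟩ := (IsLocalization.map_eq_zero_iff M.asIdeal.primeCompl L _).1 h
    exact s.2 (((mem_nonZeroDivisors_iff_right.1 hfCnz) _ hs).symm ▸ M.asIdeal.zero_mem)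
  have hmax : maximalIdeal L ≠ ⊥ := fun h => hne (Ideal.mem_bot.1 (h ▸
    (IsLocalization.AtPrime.to_map_mem_maximal_iff L M.asIdeal _).2 hfM))
  have hnf : ¬ IsField L := isField_iff_maximalIdeal_eq.not.2 hmax
  have hprime : ∀ P : Ideal L, P ≠ ⊥ → P.IsPrime → P = maximalIdeal L := fun P hP hPp => by
    let q := P.comap (algebraMap C L)
    let q₀ := (⊥ : Ideal L).comap (algebraMap C L)
    haveI : (⊥ : Ideal L).IsPrime := Ideal.isPrime_bot
    have hlt : q₀ < q := lt_of_le_of_ne (Ideal.comap_mono bot_le) fun e => hP (by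
      rw [← IsLocalization.map_under M.asIdeal.primeCompl L P, ← IsLocalization.map_under M.asIdeal.primeCompl L ⊥]
      exact congrArg (Ideal.map (algebraMap C L)) e.symm)
    haveI : q₀.IsPrime := Ideal.IsPrime.comap _
    haveI : q.IsPrime := Ideal.IsPrime.comap _
    have h2 := Ideal.IsIntegral.comap_lt_comap (R := A) hlt
    rcases Ring.krullDimLE_one_iff.1 (inferInstanceAs (Ring.KrullDimLE 1 A)) (q.comap (algebraMap A C)) inferInstance with h | h
    · exact absurd (h.2 ⟨inferInstance, bot_le⟩ h2.le) (not_le_of_gt h2)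
    · haveI : q.IsMaximal := Ideal.isMaximal_of_isIntegral_of_isMaximal_comap (R := A) q h
      have hqM : q ≤ M.asIdeal := fun z hz => by
        rw [← IsLocalization.AtPrime.to_map_mem_maximal_iff L M.asIdeal]
        exact le_maximalIdeal hPp.ne_top hz
      rw [← IsLocalization.map_under M.asIdeal.primeCompl L P]
      show Ideal.map (algebraMap C L) q = _
      rw [Ideal.IsMaximal.eq_of_le ‹_› M.isMaximal.ne_top hqM, IsLocalization.AtPrime.map_eq_maximalIdeal]
  have key : IsDiscreteValuationRing L ↔ (IsIntegrallyClosed L ∧ ∃! P : Ideal L, P ≠ ⊥ ∧ P.IsPrime) :=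
    (IsDiscreteValuationRing.TFAE L hnf).out 0 3
  exact key.2
    ⟨hic, maximalIdeal L, ⟨hmax, inferInstance⟩, fun P hP => hprime P hP.1 hP.2⟩

/-- Branch data exist at the points of reduced curves. -/
theorem exists_data [IsReduced B] [Algebra.FiniteType k B] (m : Ideal B) [m.IsMaximal]
    (hdim : ringKrullDim (Localization.AtPrime m) = 1) :
    ∃ D : Data k B m, (D.s : ℕ∞) = Brnch.numBranches (Localization.AtPrime m) := by
  classical
  haveI : IsNoetherianRing B := Algebra.FiniteType.isNoetherianRing k B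
  let A := Localization.AtPrime m
  haveI : IsNoetherianRing A := IsLocalization.isNoetherianRing m.primeCompl A inferInstance
  have hN : CAlg.IsNagata A :=
    H8Props.NagataAffine.isNagata_of_isLocalization m.primeCompl A
      (Groth.Agent.S0566.result k (H06DeltaBC.isNagata_field k) B)
  obtain ⟨hfin, hnorm, -⟩ := Groth.Agent.S7652.result A hN hdim
  haveI : Ring.KrullDimLE 1 A := Ring.krullDimLE_iff.mpr (by rw [hdim]; norm_num)
  let C := integralClosure A (FractionRing A)
  haveI : Module.Finite A C := hfin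
  haveI : Algebra.IsIntegral A C := inferInstance
  haveI : IsNoetherianRing C := isNoetherian_of_tower A inferInstance
  haveI := H22Alg.finite_maximalSpectrum_of_finite A C
  letI := Fintype.ofFinite (MaximalSpectrum C)
  have hinjC : Function.Injective (algebraMap A C) := fun x y h =>
    IsFractionRing.injective A (FractionRing A) (congrArg Subtype.val h)
  -- constants
  have hresB : ∀ b : B, ∃ a : k, b - algebraMap k B a ∈ m := fun b => by
    letI := Ideal.Quotient.field m
    haveI : Module.Finite k (B ⧸ m) := finite_of_finite_type_of_isJacobsonRing k (B ⧸ m)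
    obtain ⟨a, ha⟩ := (IsAlgClosed.algebraMap_bijective_of_isIntegral (k := k) (K := B ⧸ m)).2 (Ideal.Quotient.mk m b)
    exact ⟨a, Ideal.Quotient.eq.1 ha.symm⟩
  have hcomap : ∀ b : B, algebraMap B A b ∈ maximalIdeal A ↔ b ∈ m := fun b =>
    IsLocalization.AtPrime.to_map_mem_maximal_iff A m b
  have hresA : ∀ a : A, ∃ t : k, a - algebraMap k A t ∈ maximalIdeal A := fun a => by
    obtain ⟨⟨b, u⟩, hbu⟩ := IsLocalization.surj m.primeCompl a
    obtain ⟨tb, htb⟩ := hresB b
    obtain ⟨tu, htu⟩ := hresB u
    have htu0 : tu ≠ 0 := fun h => u.2 (by simpa [h] using htu)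
    refine ⟨tb / tu, ?_⟩
    have h1 := (hcomap _).2 htb
    have h2 := (hcomap _).2 htu
    rw [map_sub, ← IsScalarTower.algebraMap_apply] at h1 h2
    have e : algebraMap k A tu * (a - algebraMap k A (tb / tu)) =
        (algebraMap B A b - algebraMap k A tb) - a * (algebraMap B A u - algebraMap k A tu) := by
      rw [mul_sub (algebraMap k A tu), ← map_mul, mul_div_cancel₀ _ htu0]
      linear_combination hbu
    have hu : algebraMap k A tu ∉ maximalIdeal A := fun h =>
      (mem_maximalIdeal _).1 h ((Ne.isUnit htu0).map (algebraMap k A))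
    exact ((Ideal.IsMaximal.isPrime inferInstance).mem_or_mem (e ▸ sub_mem h1 (Ideal.mul_mem_left _ a h2))).resolve_left hu
  -- a nonzerodivisor in the maximal ideal conducting the normalisation
  obtain ⟨f, hfm, hfnz, hfC⟩ : ∃ f ∈ maximalIdeal A, f ∈ A⁰ ∧ ∀ x : C, ∃ a : A, algebraMap A C a = f • x := by
    obtain ⟨T, hT⟩ := (Module.Finite.fg_top (R := A) (M := C))
    obtain ⟨c, hc⟩ := IsLocalization.exist_integer_multiples_of_finset A⁰ (T.image (Subtype.val : C → _))
    have hcB : ∀ x : C, ∃ a, algebraMap A C a = (c : A) • x := fun x => by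
      have hx : x ∈ Submodule.span A (T : Set C) := hT ▸ trivial
      induction hx using Submodule.span_induction with
      | mem x hx =>
        obtain ⟨a, ha⟩ := hc x.1 (Finset.mem_image_of_mem _ hx)
        exact ⟨a, Subtype.ext ha⟩
      | zero => exact ⟨0, by simp⟩
      | add y z _ _ hy hz =>
        obtain ⟨a, ha⟩ := hy
        obtain ⟨b, hb⟩ := hz
        exact ⟨a + b, by rw [map_add, ha, hb, smul_add]⟩
      | smul r y _ hy =>
        obtain ⟨a, ha⟩ := hy
        exact ⟨r * a, by rw [map_mul, ha, smul_comm, ← Algebra.smul_def]⟩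
    obtain ⟨g, hgm, hg⟩ : ∃ g ∈ maximalIdeal A, g ∈ A⁰ := by
      by_contra! hall
      obtain ⟨p, hp, hle⟩ : ∃ p ∈ minimalPrimes A, maximalIdeal A ≤ p := by
        refine (Ideal.subset_union_prime_finite (minimalPrimes.finite_of_isNoetherianRing A)
          (f := id) ⊥ ⊥ fun q hq _ _ => hq.1.1).1 fun x hx => ?_
        by_contra hc'
        refine hall x hx (mem_nonZeroDivisors_iff_right.2 fun y hy => ?_)
        have hy' : ∀ q ∈ minimalPrimes A, y ∈ q := fun q hq =>
          (hq.1.1.mem_or_mem (hy.symm ▸ q.zero_mem)).resolve_right fun hxq => hc' (Set.mem_biUnion hq hxq)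
        have : y ∈ nilradical A := by
          rw [nilradical, Ideal.radical_eq_sInf, Submodule.mem_sInf]
          rintro J ⟨-, hJ⟩
          obtain ⟨q, hq, hqJ⟩ := Ideal.exists_minimalPrimes_le (I := (⊥ : Ideal A)) (J := J) bot_le
          exact hqJ (hy' q hq)
        simpa [nilradical_eq_zero] using this
      haveI : Ring.KrullDimLE 0 A := Ring.krullDimLE_zero_iff.2 fun I hI => by
        rcases Ring.krullDimLE_one_iff.1 ‹_› I hI with h | h
        · rw [show I = maximalIdeal A from le_antisymm (le_maximalIdeal hI.ne_top)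
            (hle.trans (hp.2 ⟨hI, bot_le⟩ ((le_maximalIdeal hI.ne_top).trans hle)))]
          infer_instance
        · exact h
      have := (Ring.krullDimLE_iff (n := 0)).1 ‹_›
      rw [hdim] at this
      exact absurd this (by norm_num)
    refine ⟨(c : A) * g, Ideal.mul_mem_left _ _ hgm, mul_mem c.2 hg, fun x => ?_⟩
    obtain ⟨a, ha⟩ := hcB x
    exact ⟨g * a, by rw [map_mul, ha, ← Algebra.smul_def, smul_smul, mul_comm g]⟩
  have hfCnz : algebraMap A C f ∈ C⁰ := mem_nonZeroDivisors_iff_right.2 fun y hy => by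
    have h1 : (y : FractionRing A) * algebraMap A (FractionRing A) f = 0 := congrArg Subtype.val hy
    exact Subtype.ext ((IsLocalization.map_units (FractionRing A) ⟨f, hfnz⟩).mul_left_eq_zero.1 h1)
  have hmaxle : ∀ M : MaximalSpectrum C, ∀ a ∈ maximalIdeal A, algebraMap A C a ∈ M.asIdeal := fun M a ha => by
    rw [← (isMaximal_iff A).mp (Ideal.isMaximal_comap_of_isIntegral_of_isMaximal (R := A) M.asIdeal)] at ha
    exact ha
  -- the local rings of the normalisation
  have hdvr : ∀ M : MaximalSpectrum C, ∃ _ : IsDomain (Localization.AtPrime M.asIdeal),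
      IsDiscreteValuationRing (Localization.AtPrime M.asIdeal) := fun M => by
    obtain ⟨hd, hic⟩ := hnorm ⟨M.asIdeal, inferInstance⟩
    exact ⟨hd, isDVR_atPrime M hfCnz (hmaxle M f hfm) (hd := hd) (hic := hic)⟩
  choose hdom hdv using hdvr
  have hres : ∀ M : MaximalSpectrum C, Function.Surjective
      (algebraMap k (ResidueField (Localization.AtPrime M.asIdeal))) := fun M => by
    let F := ResidueField (Localization.AtPrime M.asIdeal)
    let r : C →+* F := (residue _).comp (algebraMap C (Localization.AtPrime M.asIdeal))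
    have hra : ∀ a : A, ∃ t : k, r (algebraMap A C a) = algebraMap k F t := fun a => by
      obtain ⟨t, ht⟩ := hresA a
      refine ⟨t, ?_⟩
      have h1 : r (algebraMap A C (a - algebraMap k A t)) = 0 :=
        (residue_eq_zero_iff _).2 ((IsLocalization.AtPrime.to_map_mem_maximal_iff _ M.asIdeal _).2 (hmaxle M _ ht))
      rw [map_sub, map_sub, sub_eq_zero, ← IsScalarTower.algebraMap_apply] at h1
      rw [h1]
      show residue _ (algebraMap C _ (algebraMap k C t)) = _
      rw [← IsScalarTower.algebraMap_apply]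
      rfl
    choose t ht using hra
    haveI : Algebra.IsIntegral k F := ⟨fun z => by
      obtain ⟨w, rfl⟩ := residue_surjective z
      obtain ⟨⟨x, s⟩, hxs⟩ := IsLocalization.surj M.asIdeal.primeCompl w
      have hx : ∀ y : C, IsIntegral k (r y) := fun y => by
        obtain ⟨p, hp, hy⟩ := Algebra.IsIntegral.isIntegral (R := A) y
        let tk : A →+* F := r.comp (algebraMap A C)
        have hrange : ∀ n, tk (p.coeff n) ∈ Set.range (algebraMap k F) := fun n => ⟨t _, (ht _).symm⟩
        obtain ⟨p', hp', -, hp'm⟩ := Polynomial.lifts_and_degree_eq_and_monic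
          ((Polynomial.lifts_iff_coeff_lifts _).2 fun n => by rw [Polynomial.coeff_map]; exact hrange n) (hp.map tk)
        refine ⟨p', hp'm, ?_⟩
        rw [← Polynomial.eval_map, hp', Polynomial.eval_map, ← Polynomial.hom_eval₂, hy, map_zero]
      have hu : r s ≠ 0 := fun h => s.2 ((IsLocalization.AtPrime.to_map_mem_maximal_iff _ M.asIdeal _).1
        ((residue_eq_zero_iff _).1 h))
      have he : residue _ w = r x * (r s)⁻¹ := by
        rw [eq_mul_inv_iff_mul_eq₀ hu]
        show residue _ w * residue _ (algebraMap C _ (s : C)) = residue _ (algebraMap C _ x)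
        rw [← map_mul, hxs]
      rw [he]
      exact (hx x).mul (hx s).inv⟩
    exact (IsAlgClosed.algebraMap_bijective_of_isIntegral (k := k) (K := F)).2
  choose h hC hdiv happ using fun M : MaximalSpectrum C =>
    @H06Wedge.exists_expansion k (Localization.AtPrime M.asIdeal) _ _ (hdom M) (hdv M) _ (hres M)
  let e := (Fintype.equivFin (MaximalSpectrum C)).symm
  let ψ : C →+* (Fin (Fintype.card (MaximalSpectrum C)) → PowerSeries k) :=
    RingHom.pi fun j => (h (e j)).comp (algebraMap C (Localization.AtPrime (e j).asIdeal))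
  have hψmem : ∀ j n (x : C), PowerSeries.X ^ n ∣ ψ x j ↔ x ∈ (e j).asIdeal ^ n := fun j n x => by
    rw [← IsLocalization.AtPrime.under_maximalIdeal_pow (e j).asIdeal (Localization.AtPrime (e j).asIdeal) n, Ideal.mem_comap]
    exact (hdiv (e j) n _).symm
  have hψsurj : ∀ (n : ℕ) (g : Fin (Fintype.card (MaximalSpectrum C)) → PowerSeries k),
      ∃ x : C, ∀ j, PowerSeries.X ^ n ∣ ψ x j - g j := fun n g => by
    have hloc : ∀ j, ∃ x : C, PowerSeries.X ^ n ∣ ψ x j - g j := fun j => by
      obtain ⟨w, hw⟩ := happ (e j) n (g j)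
      obtain ⟨⟨x, s⟩, hxs⟩ := IsLocalization.surj (e j).asIdeal.primeCompl w
      obtain ⟨s', hs'⟩ := exists_mul_sub_one_mem_pow (M := (e j).asIdeal) n s.2
      refine ⟨x * s', ?_⟩
      have h1 := (hψmem j n _).2 hs'
      have h2 : ψ x j = h (e j) w * ψ (s : C) j := by
        show h (e j) (algebraMap C _ x) = h (e j) w * h (e j) (algebraMap C _ (s : C))
        rw [← map_mul, hxs]
      rw [map_sub, map_mul, map_one] at h1
      simp only [Pi.sub_apply, Pi.mul_apply, Pi.one_apply] at h1
      rw [map_mul, Pi.mul_apply, h2]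
      have e2 : h (e j) w * ψ (s : C) j * ψ s' j - g j =
          h (e j) w * (ψ (s : C) j * ψ s' j - 1) - (g j - h (e j) w) := by ring
      rw [e2]
      exact dvd_sub (dvd_mul_of_dvd_right h1 _) hw
    choose x hx using hloc
    obtain ⟨y, hy⟩ := Ideal.pi_quotient_surjective (I := fun j => (e j).asIdeal ^ n)
      (fun i j hij => IsCoprime.pow (Ideal.isCoprime_iff_sup_eq.mpr
        ((e i).isMaximal.coprime_of_ne (e j).isMaximal fun h => hij (e.injective (MaximalSpectrum.ext h)))))
      (fun j => Ideal.Quotient.mk _ (x j))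
    refine ⟨y, fun j => ?_⟩
    have h1 := (hψmem j n (y - x j)).2 (Ideal.Quotient.eq.1 (hy j))
    rw [map_sub, Pi.sub_apply] at h1
    simpa using dvd_add h1 (hx j)
  have hfj : ∀ j, ψ (algebraMap A C f) j ≠ 0 := fun j h0 => by
    have h1 : ∀ n, algebraMap A C f ∈ (e j).asIdeal ^ n := fun n => (hψmem j n _).1 (h0 ▸ dvd_zero _)
    have h2 : algebraMap C (Localization.AtPrime (e j).asIdeal) (algebraMap A C f) = 0 := by
      have hmem : algebraMap C (Localization.AtPrime (e j).asIdeal) (algebraMap A C f) ∈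
          (⨅ n, maximalIdeal (Localization.AtPrime (e j).asIdeal) ^ n) := (Submodule.mem_iInf _).2 fun n => by
        have := h1 n
        rwa [← IsLocalization.AtPrime.under_maximalIdeal_pow (e j).asIdeal (Localization.AtPrime (e j).asIdeal) n,
          Ideal.mem_comap] at this
      haveI : IsNoetherianRing (Localization.AtPrime (e j).asIdeal) :=
        IsLocalization.isNoetherianRing (e j).asIdeal.primeCompl _ inferInstance
      have hbot := Ideal.iInf_pow_eq_bot_of_isLocalRing (R := Localization.AtPrime (e j).asIdeal) _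
        (maximalIdeal.isMaximal _).ne_top
      exact Ideal.mem_bot.1 (hbot.le hmem)
    obtain ⟨s, hs⟩ := (IsLocalization.map_eq_zero_iff (e j).asIdeal.primeCompl _ _).1 h2
    exact s.2 (((mem_nonZeroDivisors_iff_right.1 hfCnz) _ hs).symm ▸ (e j).asIdeal.zero_mem)
  let c : Fin (Fintype.card (MaximalSpectrum C)) → ℕ := fun j => (ψ (algebraMap A C f) j).order.toNat
  choose q hq using fun j => (PowerSeries.X_pow_order_dvd (φ := ψ (algebraMap A C f) j))
  have hq0 : ∀ j, PowerSeries.constantCoeff (q j) ≠ 0 := fun j h0 => by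
    obtain ⟨r, hr⟩ := PowerSeries.X_dvd_iff.2 h0
    have h1 : PowerSeries.coeff (c j) (ψ (algebraMap A C f) j) ≠ 0 := PowerSeries.coeff_order (hfj j)
    refine h1 ?_
    rw [hq j, hr, ← mul_assoc, ← pow_succ, PowerSeries.coeff_X_pow_mul', if_neg (by simp [c])]
  have hc : ∀ j, 0 < c j := fun j => by
    refine Nat.pos_of_ne_zero fun h0 => hq0 j ?_
    have h1 := (hψmem j 1 _).2 (by rw [pow_one]; exact hmaxle (e j) f hfm)
    rw [pow_one, PowerSeries.X_dvd_iff] at h1
    rwa [hq j, show (ψ (algebraMap A C f) j).order.toNat = 0 from h0, pow_zero, one_mul] at h1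
  let φ : B →ₐ[k] (Fin (Fintype.card (MaximalSpectrum C)) → PowerSeries k) :=
    { (ψ.comp (algebraMap A C)).comp (algebraMap B A) with
      commutes' := fun t => funext fun j => by
        show h (e j) (algebraMap C _ (algebraMap A C (algebraMap B A (algebraMap k B t)))) = _
        rw [← IsScalarTower.algebraMap_apply k B A, ← IsScalarTower.algebraMap_apply k A C,
          ← IsScalarTower.algebraMap_apply k C, hC, Pi.algebraMap_apply, PowerSeries.algebraMap_apply]
        rfl }
  refine ⟨{ s := Fintype.card (MaximalSpectrum C), c := c, hc := hc, φ := φ, residue := hresB,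
            const := ?_, conductor := ?_, separated := ?_ }, ?_⟩
  · intro b j hb
    have h1 := (hψmem j 1 _).2 (by rw [pow_one]; exact hmaxle (e j) _ ((hcomap b).2 hb))
    rw [pow_one, PowerSeries.X_dvd_iff] at h1
    exact h1
  · intro g hg M
    choose r hr using hg
    obtain ⟨x, hx⟩ := hψsurj M fun j => r j * (q j)⁻¹
    obtain ⟨a, ha⟩ := hfC x
    obtain ⟨⟨b, u⟩, hbu⟩ := IsLocalization.surj m.primeCompl a
    obtain ⟨u', hu'⟩ := exists_mul_sub_one_mem_pow (M := m) M u.2
    refine ⟨b * u', fun j => ?_⟩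
    have h1 : PowerSeries.X ^ M ∣ φ ((u : B) * u' - 1) j := by
      refine (hψmem j M _).2 ?_
      have hle : (maximalIdeal A).map (algebraMap A C) ≤ (e j).asIdeal :=
        Ideal.map_le_iff_le_comap.2 fun a ha => hmaxle (e j) a ha
      refine Ideal.pow_right_mono hle M ?_
      rw [← Ideal.map_pow]
      refine Ideal.mem_map_of_mem _ ?_
      rw [← IsLocalization.AtPrime.map_eq_maximalIdeal m A, ← Ideal.map_pow]
      exact Ideal.mem_map_of_mem _ hu'
    have hb : φ b j = ψ (algebraMap A C a) j * φ (u : B) j := by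
      show ψ (algebraMap A C (algebraMap B A b)) j = ψ (algebraMap A C a) j * ψ (algebraMap A C (algebraMap B A (u : B))) j
      rw [← Pi.mul_apply, ← map_mul, ← map_mul, hbu]
    have hfa : ψ (algebraMap A C a) j = ψ (algebraMap A C f) j * ψ x j := by
      rw [ha, Algebra.smul_def, map_mul, Pi.mul_apply]
    rw [map_sub, map_mul, map_one] at h1
    simp only [Pi.sub_apply, Pi.mul_apply, Pi.one_apply] at h1
    rw [map_mul, Pi.mul_apply, hb, hfa, hr j]
    have e2 : ψ (algebraMap A C f) j * ψ x j * φ (u : B) j * φ u' j - PowerSeries.X ^ c j * r j =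
        ψ (algebraMap A C f) j * (ψ x j - r j * (q j)⁻¹) +
          ψ (algebraMap A C f) j * ψ x j * (φ (u : B) j * φ u' j - 1) := by
      have : ψ (algebraMap A C f) j * (r j * (q j)⁻¹) = PowerSeries.X ^ c j * r j := by
        rw [hq j]
        calc PowerSeries.X ^ c j * q j * (r j * (q j)⁻¹) = PowerSeries.X ^ c j * r j * ((q j)⁻¹ * q j) := by ring
          _ = _ := by rw [PowerSeries.inv_mul_cancel _ (hq0 j), mul_one]
      linear_combination this
    rw [e2]
    exact dvd_add (dvd_mul_of_dvd_right (hx j) _) (dvd_mul_of_dvd_right h1 _)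
  · intro N
    let I : Ideal C := Ideal.span {algebraMap A C f} * ((maximalIdeal A) ^ N).map (algebraMap A C)
    let J : Ideal C := ⨅ M : MaximalSpectrum C, M.asIdeal
    have hJ : J ≤ I.radical := by
      rw [Ideal.radical_eq_sInf]
      refine le_sInf fun P hP => ?_
      obtain ⟨hIP, hPp⟩ := hP
      haveI := hPp
      have hM : ∃ M : MaximalSpectrum C, M.asIdeal = P := by
        rcases hPp.mul_le.1 hIP with h1 | h1
        · rcases Ring.krullDimLE_one_iff.1 (inferInstanceAs (Ring.KrullDimLE 1 A)) (P.comap (algebraMap A C)) inferInstance with h2 | h2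
          · exact absurd hfnz fun hf' => Set.disjoint_left.1 (Ideal.disjoint_nonZeroDivisors_of_mem_minimalPrimes h2)
              (show f ∈ P.comap (algebraMap A C) from h1 (Ideal.mem_span_singleton_self _)) hf'
          · exact ⟨⟨P, Ideal.isMaximal_of_isIntegral_of_isMaximal_comap (R := A) P h2⟩, rfl⟩
        · have h3 : maximalIdeal A ≤ P.comap (algebraMap A C) := fun a ha => by
            refine hPp.mem_of_pow_mem N ?_
            rw [← map_pow]
            exact h1 (Ideal.mem_map_of_mem _ (Ideal.pow_mem_pow ha N))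
          have h4 : (P.comap (algebraMap A C)).IsMaximal := by
            rw [← (maximalIdeal.isMaximal A).eq_of_le (Ideal.IsPrime.comap _).ne_top h3]
            infer_instance
          exact ⟨⟨P, Ideal.isMaximal_of_isIntegral_of_isMaximal_comap (R := A) P h4⟩, rfl⟩
      obtain ⟨M, rfl⟩ := hM
      exact iInf_le _ M
    obtain ⟨n, hn⟩ := Ideal.exists_pow_le_of_le_radical_of_fg hJ (IsNoetherian.noetherian J)
    refine ⟨n, fun b hb => ?_⟩
    have h1 : algebraMap A C (algebraMap B A b) ∈ ⨅ j, (e j).asIdeal ^ n :=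
      (Submodule.mem_iInf _).2 fun j => (hψmem j n _).1 (hb j)
    have h2 : (⨅ j, (e j).asIdeal ^ n) ≤ J ^ n := by
      have hcop : ∀ i ∈ (Finset.univ : Finset (Fin (Fintype.card (MaximalSpectrum C)))), ∀ j ∈ Finset.univ, i ≠ j →
          IsCoprime ((e i).asIdeal ^ n) ((e j).asIdeal ^ n) := fun i _ j _ hij =>
        IsCoprime.pow (Ideal.isCoprime_iff_sup_eq.mpr
          ((e i).isMaximal.coprime_of_ne (e j).isMaximal fun h => hij (e.injective (MaximalSpectrum.ext h))))
      rw [show (⨅ j, (e j).asIdeal ^ n) = (Finset.univ : Finset _).inf (fun j => (e j).asIdeal ^ n) from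
        (Finset.inf_univ_eq_iInf _).symm, Finset.inf_eq_iInf, ← Ideal.prod_eq_iInf_of_pairwise_isCoprime (fun i hi j hj => hcop i hi j hj), Finset.prod_pow]
      refine Ideal.pow_right_mono (le_iInf fun M => ?_) n
      obtain ⟨j, rfl⟩ := e.surjective M
      exact Ideal.prod_le_inf.trans (Finset.inf_le (Finset.mem_univ j))
    obtain ⟨y, hy, hyb⟩ := Ideal.mem_span_singleton_mul.1 (hn (h2 h1))
    have h5 : ∀ z ∈ ((maximalIdeal A) ^ N).map (algebraMap A C), ∃ a ∈ (maximalIdeal A) ^ N,
        algebraMap A C a = algebraMap A C f * z := fun z hz => by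
      rw [Ideal.map, Ideal.span] at hz
      induction hz using Submodule.span_induction with
      | mem z hz =>
        obtain ⟨a, ha, rfl⟩ := hz
        exact ⟨f * a, Ideal.mul_mem_left _ _ ha, map_mul _ _ _⟩
      | zero => exact ⟨0, zero_mem _, by simp⟩
      | add z w _ _ hz hw =>
        obtain ⟨a, ha, ha'⟩ := hz
        obtain ⟨a', ha₁, ha₂⟩ := hw
        exact ⟨a + a', add_mem ha ha₁, by rw [map_add, ha', ha₂, mul_add]⟩
      | smul r z hz' hz =>
        clear hz
        obtain ⟨a, ha, ha'⟩ : ∃ a ∈ (maximalIdeal A) ^ N, algebraMap A C a = algebraMap A C f * (r • z) := by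
          induction hz' using Submodule.span_induction generalizing r with
          | mem z hz =>
            obtain ⟨a, ha, rfl⟩ := hz
            obtain ⟨a', ha'⟩ := hfC r
            refine ⟨a' * a, Ideal.mul_mem_left _ _ ha, ?_⟩
            rw [map_mul, ha', Algebra.smul_def, smul_eq_mul, mul_assoc]
          | zero => exact ⟨0, zero_mem _, by simp⟩
          | add z w _ _ hz hw =>
            obtain ⟨a, ha, ha'⟩ := hz r
            obtain ⟨a', ha₁, ha₂⟩ := hw r
            exact ⟨a + a', add_mem ha ha₁, by rw [map_add, ha', ha₂, smul_add, mul_add]⟩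
          | smul r' z _ hz =>
            obtain ⟨a, ha, ha'⟩ := hz (r * r')
            exact ⟨a, ha, by rw [ha', smul_smul r r' z]⟩
        exact ⟨a, ha, ha'⟩
    obtain ⟨a, ha, hfa⟩ := h5 y hy
    obtain rfl : a = algebraMap B A b := hinjC (hfa.trans hyb)
    rw [← IsLocalization.AtPrime.under_maximalIdeal_pow m A N]
    exact ha
  · rw [H06Wedge.numBranches_eq_card, ENat.card_eq_coe_fintype_card]

end Groth.Agent.H27CurveSing
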