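import Mathlib

/-! # Subspaces of a coordinate space by their leading positions -/

set_option autoImplicit false
set_option linter.style.haveILetI false

universe u v

namespace Groth.Agent.H27CurveSing

variable {ι : Type} [Fintype ι] [LinearOrder ι]

/-- The free entries of the reduced basis with leading positions `S`. -/
abbrev CVar (S : Finset ι) : Type := {p : ↥S × ι // p.2 ∉ S ∧ (p.1 : ι) < p.2}

variable {A : Type v} [CommRing A]

/-- The reduced basis. -/
def row (S : Finset ι) (a : CVar S → A) (l : ↥S) : ι → A := fun y =>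
  if y = (l : ι) then 1 else if h : y ∉ S ∧ (l : ι) < y then a ⟨(l, y), h⟩ else 0

lemma row_self (S : Finset ι) (a : CVar S → A) (l l' : ↥S) :
    row S a l l' = if l = l' then 1 else 0 := by
  rw [row]
  by_cases h : l = l'
  · rw [if_pos h, if_pos (by rw [h])]
  · rw [if_neg h, if_neg (fun e => h (Subtype.ext e.symm)), dif_neg (fun e => e.1 l'.2)]

lemma row_of_lt (S : Finset ι) (a : CVar S → A) (l : ↥S) {y : ι} (h : y < l) : row S a l y = 0 := by
  rw [row, if_neg h.ne, dif_neg fun e => (h.trans e.2).false]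

lemma row_map {A' : Type v} [CommRing A'] (ψ : A →+* A') (S : Finset ι) (a : CVar S → A) (l : ↥S) (y : ι) :
    ψ (row S a l y) = row S (fun x => ψ (a x)) l y := by
  rw [row, row]; split_ifs <;> simp

/-- The span of the reduced basis. -/
abbrev cellSpan (S : Finset ι) (a : CVar S → A) : Submodule A (ι → A) :=
  Submodule.span A (Set.range (row S a))

/-- The part of a vector off the leading positions, modulo the basis. -/
def res (S : Finset ι) (a : CVar S → A) : (ι → A) →ₗ[A] ({y // y ∉ S} → A) :=
  LinearMap.pi fun y => LinearMap.proj y.1 - ∑ l : ↥S, row S a l y.1 • LinearMap.proj (l : ι)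

lemma res_apply (S : Finset ι) (a : CVar S → A) (z : ι → A) (y : {y // y ∉ S}) :
    res S a z y = z y.1 - ∑ l : ↥S, row S a l y.1 * z l := by
  simp [res]

lemma res_map {A' : Type v} [CommRing A'] (ψ : A →+* A') (S : Finset ι) (a : CVar S → A) (z : ι → A)
    (y : {y // y ∉ S}) : ψ (res S a z y) = res S (fun x => ψ (a x)) (fun x => ψ (z x)) y := by
  simp [res_apply, row_map]

lemma ker_res (S : Finset ι) (a : CVar S → A) : LinearMap.ker (res S a) = cellSpan S a := by
  refine le_antisymm (fun z hz => ?_) (Submodule.span_le.2 ?_)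
  · have : z = ∑ l : ↥S, z l • row S a l := by
      funext y
      simp only [Finset.sum_apply, Pi.smul_apply, smul_eq_mul]
      by_cases hy : y ∈ S
      · rw [Finset.sum_eq_single (⟨y, hy⟩ : ↥S)]
        · rw [row_self S a ⟨y, hy⟩ ⟨y, hy⟩, if_pos rfl, mul_one]
        · intro l _ hl
          rw [row_self S a l ⟨y, hy⟩, if_neg hl, mul_zero]
        · simp
      · have := congrFun (LinearMap.mem_ker.1 hz) ⟨y, hy⟩
        rw [res_apply, Pi.zero_apply, sub_eq_zero] at this
        rw [this]
        exact Finset.sum_congr rfl fun l _ => mul_comm _ _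
    rw [this]
    exact sum_mem fun l _ => Submodule.smul_mem _ _ (Submodule.subset_span ⟨l, rfl⟩)
  · rintro _ ⟨l, rfl⟩
    rw [SetLike.mem_coe, LinearMap.mem_ker]
    funext y
    rw [res_apply, Pi.zero_apply, Finset.sum_eq_single l]
    · rw [row_self, if_pos rfl, mul_one, sub_self]
    · intro l' _ hl
      rw [row_self, if_neg hl.symm, mul_zero]
    · simp

lemma mem_cellSpan_iff {S : Finset ι} {a : CVar S → A} {z : ι → A} : z ∈ cellSpan S a ↔ res S a z = 0 := by
  rw [← ker_res, LinearMap.mem_ker]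

/-- Filling the leading positions with zeros. -/
def fill (S : Finset ι) : ({y // y ∉ S} → A) →ₗ[A] (ι → A) :=
  LinearMap.pi fun y => if h : y ∉ S then LinearMap.proj (⟨y, h⟩ : {y // y ∉ S}) else 0

lemma fill_apply_not_mem (S : Finset ι) (z : {y // y ∉ S} → A) (y : {y // y ∉ S}) : fill S z y.1 = z y := by
  simp [fill, y.2]

lemma fill_apply_mem (S : Finset ι) (z : {y // y ∉ S} → A) (l : ↥S) : fill S z l = 0 := by
  simp [fill, l.2]

lemma res_fill (S : Finset ι) (a : CVar S → A) (z : {y // y ∉ S} → A) : res S a (fill S z) = z := by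
  funext y
  simp [res_apply, fill_apply_not_mem, fill_apply_mem]

section field

variable {K : Type v} [Field K]

/-- The leading positions of the elements of a subspace. -/
noncomputable def lead (V : Submodule K (ι → K)) : Finset ι := by
  classical exact Finset.univ.filter fun l => ∃ z ∈ V, z l ≠ 0 ∧ ∀ y < l, z y = 0

lemma mem_lead {V : Submodule K (ι → K)} {l : ι} : l ∈ lead V ↔ ∃ z ∈ V, z l ≠ 0 ∧ ∀ y < l, z y = 0 := by
  simp [lead]

lemma exists_mem_lead {V : Submodule K (ι → K)} {z : ι → K} (hz : z ∈ V) (hne : z ≠ 0) :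
    ∃ l ∈ lead V, z l ≠ 0 := by
  classical
  have hS : (Finset.univ.filter fun l => z l ≠ 0).Nonempty := by
    obtain ⟨l, hl⟩ := Function.ne_iff.1 hne
    exact ⟨l, by simpa using hl⟩
  have h1 := (Finset.mem_filter.1 (Finset.min'_mem _ hS)).2
  refine ⟨_, mem_lead.2 ⟨z, hz, h1, fun y hy => ?_⟩, h1⟩
  by_contra h
  exact absurd (Finset.min'_le _ y (by simp [h])) (not_le.2 hy)

/-- Every subspace is the span of one reduced basis. -/
theorem exists_cell (V : Submodule K (ι → K)) : ∃ a : CVar (lead V) → K, cellSpan (lead V) a = V := by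
  classical
  let p : ↥V →ₗ[K] (↥(lead V) → K) := LinearMap.pi fun l => LinearMap.proj (l : ι) ∘ₗ V.subtype
  have hinj : Function.Injective p := by
    refine (injective_iff_map_eq_zero p).2 fun z hz => Subtype.ext ?_
    by_contra hne
    obtain ⟨l, hl, hzl⟩ := exists_mem_lead z.2 hne
    exact hzl (congrFun hz ⟨l, hl⟩)
  choose w hw hwl hwlt using fun l : ↥(lead V) => mem_lead.1 l.2
  have hindep : LinearIndependent K fun l : ↥(lead V) => (⟨w l, hw l⟩ : ↥V) := by
    rw [Fintype.linearIndependent_iff]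
    intro g hg
    by_contra h
    push Not at h
    have hS : (Finset.univ.filter fun l => g l ≠ 0).Nonempty := by
      obtain ⟨l, hl⟩ := h; exact ⟨l, by simp [hl]⟩
    set l₀ := (Finset.univ.filter fun l => g l ≠ 0).min' hS with hl₀
    have hg₀ : g l₀ ≠ 0 := (Finset.mem_filter.1 (Finset.min'_mem _ hS)).2
    have h0 := congrArg (fun z : ↥V => (z : ι → K) l₀) hg
    simp only [AddSubmonoidClass.coe_finsetSum, SetLike.val_smul, Finset.sum_apply, Pi.smul_apply, smul_eq_mul,
      ZeroMemClass.coe_zero, Pi.zero_apply] at h0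
    rw [Finset.sum_eq_single l₀] at h0
    · exact (mul_ne_zero hg₀ (hwl l₀)) h0
    · intro l _ hl
      by_cases hgl : g l = 0
      · rw [hgl, zero_mul]
      · have : l₀ ≤ l := Finset.min'_le _ l (by simp [hgl])
        rw [hwlt l (l₀ : ι) (show (l₀ : ι) < l from lt_of_le_of_ne this fun e => hl (Subtype.ext e.symm)), mul_zero]
    · simp
  have hsurj : Function.Surjective p := by
    have h1 : Fintype.card ↥(lead V) ≤ Module.finrank K V := hindep.fintype_card_le_finrank
    have h2 : Module.finrank K V ≤ Module.finrank K (↥(lead V) → K) := LinearMap.finrank_le_finrank_of_injective hinj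
    have h3 : Module.finrank K (↥(lead V) → K) = Fintype.card ↥(lead V) := Module.finrank_pi K
    exact (LinearMap.injective_iff_surjective_of_finrank_eq_finrank (by omega)).1 hinj
  choose ρ hρ using fun l : ↥(lead V) => hsurj (Pi.single l 1)
  have hρv : ∀ l l' : ↥(lead V), (ρ l : ι → K) l' = if l = l' then 1 else 0 := fun l l' => by
    have := congrFun (hρ l) l'
    simp only [Pi.single_apply, eq_comm (a := l') (b := l)] at this
    exact this
  have hlt : ∀ (l : ↥(lead V)) (y : ι), y < (l : ι) → (ρ l : ι → K) y = 0 := fun l y hy => by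
    by_contra h
    have hS : (Finset.univ.filter fun y => (ρ l : ι → K) y ≠ 0).Nonempty := ⟨y, by simp [h]⟩
    set y₀ := (Finset.univ.filter fun y => (ρ l : ι → K) y ≠ 0).min' hS with hy₀
    have h0 : (ρ l : ι → K) y₀ ≠ 0 := (Finset.mem_filter.1 (Finset.min'_mem _ hS)).2
    have hmem : y₀ ∈ lead V := mem_lead.2 ⟨_, (ρ l).2, h0, fun z hz => by
      by_contra h'
      exact absurd (Finset.min'_le _ z (by simp [h'])) (not_le.2 hz)⟩
    have hle : y₀ ≤ y := Finset.min'_le _ y (by simp [h])
    have := hρv l ⟨y₀, hmem⟩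
    rw [if_neg (fun e => (lt_of_le_of_lt hle hy).ne (congrArg Subtype.val e).symm)] at this
    exact h0 this
  have hrow : ∀ l : ↥(lead V), row (lead V) (fun x : CVar (lead V) => (ρ x.1.1 : ι → K) x.1.2) l = (ρ l : ι → K) := fun l => funext fun y => by
    by_cases hy : y ∈ lead V
    · exact (row_self _ _ l ⟨y, hy⟩).trans (hρv l ⟨y, hy⟩).symm
    · rcases lt_trichotomy y (l : ι) with h | h | h
      · rw [row_of_lt _ _ l h, hlt l y h]
      · exact absurd (h ▸ l.2) hy
      · rw [row, if_neg h.ne', dif_pos ⟨hy, h⟩]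
  refine ⟨fun x : CVar (lead V) => (ρ x.1.1 : ι → K) x.1.2, le_antisymm (Submodule.span_le.2 ?_) fun z hz => ?_⟩
  · rintro _ ⟨l, rfl⟩
    rw [hrow]; exact (ρ l).2
  · have : (⟨z, hz⟩ : ↥V) = ∑ l : ↥(lead V), z (l : ι) • ρ l := hinj (by
      rw [map_sum]
      simp only [map_smul, hρ]
      funext l
      simp [p, Pi.single_apply, Finset.sum_apply])
    rw [show z = ((∑ l : ↥(lead V), z (l : ι) • ρ l : ↥V) : ι → K) from congrArg Subtype.val this, AddSubmonoidClass.coe_finsetSum]
    exact sum_mem fun l _ => Submodule.smul_mem _ _ (Submodule.subset_span ⟨l, hrow l⟩)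

/-- The leading positions of a cell. -/
theorem lead_cellSpan (S : Finset ι) (a : CVar S → K) : lead (cellSpan S a) = S := by
  classical
  ext y
  rw [mem_lead]
  refine ⟨?_, fun hy => ⟨row S a ⟨y, hy⟩, Submodule.subset_span ⟨_, rfl⟩, ?_, fun z hz => row_of_lt S a ⟨y, hy⟩ hz⟩⟩
  · rintro ⟨z, hz, hzy, hlt⟩
    by_contra hy
    have h := congrFun (mem_cellSpan_iff.1 hz) ⟨y, hy⟩
    rw [res_apply, Pi.zero_apply, Finset.sum_eq_zero, sub_zero] at h
    · exact hzy h
    · intro l _
      rcases lt_trichotomy y (l : ι) with h' | h' | h'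
      · rw [row_of_lt S a l h', zero_mul]
      · exact absurd (h' ▸ l.2) hy
      · rw [hlt _ h', mul_zero]
  · rw [row_self S a ⟨y, hy⟩ ⟨y, hy⟩, if_pos rfl]
    exact one_ne_zero

/-- The reduced basis is unique. -/
theorem cell_injective {S : Finset ι} {a a' : CVar S → K} (h : cellSpan S a = cellSpan S a') : a = a' := by
  funext ⟨⟨l, y⟩, hy, hly⟩
  have hmem : row S a l ∈ cellSpan S a' := h ▸ Submodule.subset_span ⟨l, rfl⟩
  have hr : res S a' (row S a l) ⟨y, hy⟩ = 0 := congrFun (mem_cellSpan_iff.1 hmem) _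
  rw [res_apply, Finset.sum_eq_single l (fun l' _ hl => by rw [row_self, if_neg hl.symm, mul_zero]) (by simp),
    row_self, if_pos rfl, mul_one, sub_eq_zero] at hr
  simpa [row, hly.ne', hy, hly] using hr

end field

end Groth.Agent.H27CurveSing
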