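import Groth.Agent.H27CurveSing.Family
import Mathlib

/-! # Punctual ideals are families of window subspaces -/

set_option autoImplicit false
set_option linter.style.haveILetI false

universe u

open PowerSeries TensorProduct

namespace Groth.Agent.H27CurveSing.Data

variable {k : Type u} [Field k] {B : Type u} [CommRing B] [Algebra k B] {m : Ideal B} (D : Data k B m)

lemma ψ_of_dvd {A : Type u} [CommRing A] [Algebra k A] {v : Fin D.s → ℕ} {S : Finset (Win D.c)} (a : CVar S → A)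
    {g : Fin D.s → A⟦X⟧} (hg : ∀ j, X ^ (v j + D.c j) ∣ g j) : D.ψ (v := v) a g = 0 := by
  choose r hr using hg
  refine (D.ψ_eq_zero_iff a).2 ⟨fun j => X ^ D.c j * r j,
    funext fun j => by rw [hr j, sh_apply, pow_add, mul_assoc], ?_⟩
  rw [show trunc A D.c (fun j => X ^ D.c j * r j) = 0 from funext fun x => by
    simp [coeff_X_pow_mul', not_le.2 x.2.2]]
  exact zero_mem _

variable {K : Type u} [Field K] [Algebra k K]

/-- Expansions separate families up to a power of the point. -/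
theorem mem_map_pow_of_dvd {N M : ℕ} (hM : ∀ b, (∀ j, X ^ M ∣ D.φ b j) → b ∈ m ^ N) {z : K ⊗[k] B}
    (hz : ∀ j, X ^ M ∣ D.φA K z j) :
    z ∈ (m.map (Algebra.TensorProduct.includeRight : B →ₐ[k] K ⊗[k] B)) ^ N := by
  classical
  let bK := Module.Free.chooseBasis k K
  obtain ⟨f, rfl⟩ : ∃ f : Module.Free.ChooseBasisIndex k K →₀ B, (f.sum fun i b => bK i ⊗ₜ[k] b) = z := by
    refine ⟨TensorProduct.equivFinsuppOfBasisLeft bK z, ?_⟩
    conv_rhs => rw [← (TensorProduct.equivFinsuppOfBasisLeft bK).symm_apply_apply z]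
    rw [TensorProduct.equivFinsuppOfBasisLeft_symm_apply]
  rw [← Ideal.map_pow]
  refine Ideal.sum_mem _ fun i hi => ?_
  have hmem : f i ∈ m ^ N := hM _ fun j => X_pow_dvd_iff.2 fun n hn => by
    have h0 := X_pow_dvd_iff.1 (hz j) n hn
    rw [Finsupp.sum, map_sum, Finset.sum_apply, map_sum] at h0
    simp only [coeff_φA_tmul] at h0
    have h1 : ∑ i ∈ f.support, coeff n (D.φ (f i) j) • bK i = 0 := by
      rw [← h0]
      exact Finset.sum_congr rfl fun i _ => by rw [Algebra.smul_def, mul_comm]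
    exact linearIndependent_iff'.1 bK.linearIndependent _ _ h1 i hi
  have e : bK i ⊗ₜ[k] f i = (bK i ⊗ₜ[k] (1 : B)) * Algebra.TensorProduct.includeRight (f i) := by
    simp
  show bK i ⊗ₜ[k] f i ∈ _
  rw [e]
  exact Ideal.mul_mem_left _ _ (Ideal.mem_map_of_mem _ hmem)

/-- Punctual ideals contain everything of high order. -/
theorem exists_bound (hfg : m.FG) (I : Ideal (K ⊗[k] B))
    (hpun : m.map (Algebra.TensorProduct.includeRight : B →ₐ[k] K ⊗[k] B) ≤ I.radical) :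
    ∃ N M, (m.map (Algebra.TensorProduct.includeRight : B →ₐ[k] K ⊗[k] B)) ^ N ≤ I ∧
      ∀ z, (∀ j, X ^ M ∣ D.φA K z j) → z ∈ I := by
  obtain ⟨N, hN⟩ := Ideal.exists_pow_le_of_le_radical_of_fg hpun (hfg.map _)
  obtain ⟨M, hM⟩ := D.separated N
  exact ⟨N, M, hN, fun z hz => hN (D.mem_map_pow_of_dvd hM hz)⟩

/-- Punctual ideals are families of window subspaces meeting every branch. -/
theorem exists_eq_fam (hfg : m.FG) (I : Ideal (K ⊗[k] B))
    (hpun : m.map (Algebra.TensorProduct.includeRight : B →ₐ[k] K ⊗[k] B) ≤ I.radical) :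
    ∃ (v : Fin D.s → ℕ) (S : Finset (Win D.c)) (a : CVar S → K) (h : D.IsPiece v S a),
      (∀ j, ∃ l, row S a l ⟨j, ⟨0, D.hc j⟩⟩ ≠ 0) ∧ h.fam = I := by
  classical
  obtain ⟨N, M, hN, hM⟩ := D.exists_bound hfg I hpun
  have hne : ∀ j, ∃ i, ∃ z ∈ I, coeff i (D.φA K z j) ≠ 0 := fun j => by
    obtain ⟨b, hb⟩ := D.conductor (Pi.single j (X ^ D.c j)) (fun i => by
      rcases eq_or_ne i j with rfl | hi
      · rw [Pi.single_eq_same]
      · rw [Pi.single_eq_of_ne hi]; exact dvd_zero _) (D.c j + 1)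
    have hcoef : ∀ i < D.c j + 1, coeff i (D.φ b j) = if i = D.c j then 1 else 0 := fun i hi => by
      have := X_pow_dvd_iff.1 (hb j) i hi
      rwa [map_sub, sub_eq_zero, Pi.single_eq_same, coeff_X_pow] at this
    obtain ⟨t, ht⟩ := D.residue b
    have ht0 : t = 0 := by
      have h := D.const _ j ht
      rw [map_sub, AlgHom.commutes, Pi.sub_apply, map_sub, ← coeff_zero_eq_constantCoeff_apply,
        hcoef 0 (Nat.succ_pos _), if_neg (D.hc j).ne, zero_sub, neg_eq_zero] at h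
      simpa [PowerSeries.algebraMap_apply] using h
    rw [ht0, map_zero, sub_zero] at ht
    have hz : (1 : K) ⊗ₜ[k] (b ^ N) ∈ I := hN (by
      rw [← Ideal.map_pow]
      exact Ideal.mem_map_of_mem _ (Ideal.pow_mem_pow ht N))
    have hφ : D.φA K ((1 : K) ⊗ₜ[k] (b ^ N)) j = PowerSeries.map (algebraMap k K) (D.φ b j) ^ N := by
      rw [φA_tmul, one_smul, mapS_apply, map_pow, Pi.pow_apply, map_pow]
    have hne0 : D.φA K ((1 : K) ⊗ₜ[k] (b ^ N)) j ≠ 0 := by
      rw [hφ]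
      refine pow_ne_zero _ fun h => ?_
      have := congrArg (coeff (D.c j)) h
      rw [PowerSeries.coeff_map, hcoef _ (Nat.lt_succ_self _), if_pos rfl, map_one, map_zero] at this
      exact one_ne_zero this
    obtain ⟨i, hi⟩ := exists_coeff_ne_zero_iff_ne_zero.2 hne0
    exact ⟨i, _, hz, hi⟩
  let v : Fin D.s → ℕ := fun j => Nat.find (hne j)
  have hlow : ∀ z ∈ I, ∀ j, ∀ i < v j, coeff i (D.φA K z j) = 0 := fun z hz j i hi => by
    by_contra h
    exact Nat.find_min (hne j) hi ⟨z, hz, h⟩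
  have htop : ∀ j, ∃ z ∈ I, coeff (v j) (D.φA K z j) ≠ 0 := fun j => Nat.find_spec (hne j)
  -- everything of order at least `v + c` comes from `I`
  have hbig : ∀ g : Fin D.s → K⟦X⟧, (∀ j, X ^ (v j + D.c j) ∣ g j) →
      ∃ z ∈ I, ∀ j, X ^ M ∣ D.φA K z j - g j := fun g hg => by
    choose f hfI hf using htop
    choose g' hg' using hg
    have hq : ∀ j, ∃ q, D.φA K (f j) j = X ^ v j * q ∧ constantCoeff q ≠ 0 := fun j => by
      obtain ⟨q, hq⟩ := X_pow_dvd_iff.2 (hlow (f j) (hfI j) j)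
      refine ⟨q, hq, fun h0 => hf j ?_⟩
      rw [hq, coeff_X_pow_mul', if_pos le_rfl, Nat.sub_self, coeff_zero_eq_constantCoeff_apply, h0]
    choose q hq hq0 using hq
    let r : Fin D.s → K⟦X⟧ := fun j => X ^ D.c j * g' j * (q j)⁻¹
    have hw : ∀ j, ∃ w, ∀ i, X ^ M ∣ D.φA K w i - (Pi.single j (r j) : Fin D.s → K⟦X⟧) i := fun j => by
      refine D.exists_approx K ?_ M
      rw [show trunc K D.c (Pi.single j (r j) : Fin D.s → K⟦X⟧) = 0 from funext fun x => ?_, map_zero]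
      rw [trunc_apply]
      rcases eq_or_ne x.1 j with rfl | hx
      · simp [r, mul_assoc, coeff_X_pow_mul', not_le.2 x.2.2]
      · simp [Pi.single_eq_of_ne hx]
    choose w hw using hw
    refine ⟨∑ j, w j * f j, I.sum_mem fun j _ => I.mul_mem_left _ (hfI j), fun i => ?_⟩
    rw [map_sum, Finset.sum_apply]
    have e : g i = ∑ j, (Pi.single j (r j) : Fin D.s → K⟦X⟧) i * D.φA K (f j) i := by
      rw [Finset.sum_eq_single i (fun j _ hj => by rw [Pi.single_eq_of_ne hj.symm, zero_mul]) (by simp),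
        Pi.single_eq_same, hq i, hg' i, pow_add]
      calc X ^ v i * X ^ D.c i * g' i = X ^ D.c i * g' i * ((q i)⁻¹ * q i) * X ^ v i := by
            rw [PowerSeries.inv_mul_cancel _ (hq0 i)]; ring
        _ = _ := by simp only [r]; ring
    rw [e, ← Finset.sum_sub_distrib]
    refine Finset.dvd_sum fun j _ => ?_
    rw [map_mul, Pi.mul_apply, ← sub_mul]
    exact dvd_mul_of_dvd_left (hw j i) _
  let Φ : K ⊗[k] B →ₗ[K] (Win D.c → K) := win K D.c v ∘ₗ (D.φA K).toLinearMap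
  let V : Submodule K (Win D.c → K) := (I.restrictScalars K).map Φ
  obtain ⟨a, ha⟩ := exists_cell V
  have hV : ∀ z ∈ I, ∃ g', D.φA K z = sh K v g' ∧ trunc K D.c g' = win K D.c v (D.φA K z) := fun z hz => by
    obtain ⟨g', hg'⟩ := eq_sh (A := K) (v := v) (g := D.φA K z) fun j i hi => hlow z hz j i hi
    exact ⟨g', hg', by rw [hg', win_sh]⟩
  have hrow : ∀ l, row (lead V) a l ∈ V := fun l => ha.le (Submodule.subset_span ⟨l, rfl⟩)
  have hpiece : D.IsPiece v (lead V) a := by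
    refine ⟨fun l => ?_, fun i l => ?_⟩
    · obtain ⟨z, hz, hzl⟩ := hrow l
      obtain ⟨g', hg', hg''⟩ := hV z hz
      have := D.E_trunc_φA K z
      rwa [hg', trunc_sh, hg'', show win K D.c v (D.φA K z) = row (lead V) a l from hzl] at this
    · obtain ⟨z, hz, hzl⟩ := hrow l
      obtain ⟨g', hg', hg''⟩ := hV z hz
      obtain ⟨b, hb⟩ : D.gen i ∈ D.im := (Module.finBasis k D.im i).2
      have hmem : Φ ((1 : K) ⊗ₜ[k] b * z) ∈ V := Submodule.mem_map_of_mem (I.mul_mem_left _ hz)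
      have e : Φ ((1 : K) ⊗ₜ[k] b * z) =
          mulW K D.c (fun x => algebraMap k K (D.gen i x)) (row (lead V) a l) := by
        show win K D.c v (D.φA K ((1 : K) ⊗ₜ[k] b * z)) = _
        rw [map_mul, hg', win_mul_sh, hg'', show win K D.c v (D.φA K z) = row (lead V) a l from hzl, trunc_φA_tmul,
          one_smul, show trunc k D.c (D.φ b) = D.gen i from hb]
      replace hmem := ha.ge (e ▸ hmem)
      exact mem_cellSpan_iff.1 hmem
  refine ⟨v, lead V, a, hpiece, fun j => ?_, le_antisymm (fun z hz => ?_) fun z hz => ?_⟩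
  · by_contra hall
    push Not at hall
    obtain ⟨z, hz, hzj⟩ := htop j
    have hmem : Φ z ∈ cellSpan (lead V) a := ha.ge (Submodule.mem_map_of_mem hz)
    have h0 : Φ z ⟨j, ⟨0, D.hc j⟩⟩ = 0 := by
      generalize Φ z = y at hmem
      induction hmem using Submodule.span_induction with
      | zero => rfl
      | add _ _ _ _ hp hq => simp [hp, hq]
      | smul r _ _ hp => simp [hp]
      | mem y hy => obtain ⟨l, rfl⟩ := hy; exact hall l
    exact hzj (by simpa [Φ] using h0)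
  · obtain ⟨g', hg', hg''⟩ := (D.ψ_eq_zero_iff a).1 ((IsPiece.mem_fam D hpiece).1 hz)
    obtain ⟨z', hz', hzeq⟩ := ha.le hg''
    obtain ⟨g₁, hg₁, hg₁'⟩ := hV z' hz'
    have hdvd : ∀ j, X ^ (v j + D.c j) ∣ (D.φA K z - D.φA K z') j := fun j => by
      rw [Pi.sub_apply, hg', hg₁, sh_apply, sh_apply, ← mul_sub, pow_add]
      refine mul_dvd_mul_left _ (X_pow_dvd_iff.2 fun i hi => ?_)
      have := congrFun (hzeq.symm.trans (show Φ z' = trunc K D.c g₁ from hg₁'.symm)) ⟨j, ⟨i, hi⟩⟩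
      simp only [trunc_apply] at this
      rw [map_sub, this, sub_self]
    obtain ⟨z'', hz'', hz3⟩ := hbig _ hdvd
    have : z - z' - z'' ∈ I := hM _ fun j => by
      have := dvd_neg.2 (hz3 j)
      rw [map_sub, map_sub, Pi.sub_apply, Pi.sub_apply]
      rwa [Pi.sub_apply, neg_sub] at this
    have h2 : z = (z - z' - z'') + z' + z'' := by abel
    rw [h2]
    exact I.add_mem (I.add_mem this hz') hz''
  · obtain ⟨g', hg', hg''⟩ := hV z hz
    exact (IsPiece.mem_fam D hpiece).2 ((D.ψ_eq_zero_iff a).2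
      ⟨g', hg', by rw [hg'']; exact ha.ge ⟨z, hz, rfl⟩⟩)

/-- Vectors of a piece are attained. -/
theorem IsPiece.exists_mem {v : Fin D.s → ℕ} {S : Finset (Win D.c)} {a : CVar S → K} (h : D.IsPiece v S a)
    {y : Win D.c → K} (hy : y ∈ cellSpan S a) (M : ℕ) :
    ∃ z ∈ h.fam, ∀ j, X ^ M ∣ D.φA K z j - sh K v (lift K D.c y) j := by
  have h0 : D.ψ (v := v) a (sh K v (lift K D.c y)) = 0 :=
    (D.ψ_eq_zero_iff a).2 ⟨_, rfl, by rwa [trunc_lift]⟩
  obtain ⟨z, hz⟩ := D.exists_approx K (g := sh K v (lift K D.c y)) (h.E_of_ψ D h0) (M + ∑ j, (v j + D.c j))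
  refine ⟨z, (IsPiece.mem_fam D h).2 ?_, fun j => (pow_dvd_pow X (Nat.le_add_right _ _)).trans (hz j)⟩
  have := D.ψ_of_dvd (v := v) a (g := D.φA K z - sh K v (lift K D.c y)) fun j => by
    rw [Pi.sub_apply]
    exact (pow_dvd_pow X ((Finset.single_le_sum (f := fun j => v j + D.c j) (fun _ _ => Nat.zero_le _)
      (Finset.mem_univ j)).trans (Nat.le_add_left _ _))).trans (hz j)
  rwa [map_sub, h0, sub_zero] at this

/-- Pieces are determined by their family. -/
theorem IsPiece.eq_of_fam {v v' : Fin D.s → ℕ} {S S' : Finset (Win D.c)} {a : CVar S → K} {a' : CVar S' → K}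
    (h : D.IsPiece v S a) (h' : D.IsPiece v' S' a') (hu : ∀ j, ∃ l, row S a l ⟨j, ⟨0, D.hc j⟩⟩ ≠ 0)
    (hu' : ∀ j, ∃ l, row S' a' l ⟨j, ⟨0, D.hc j⟩⟩ ≠ 0) (e : h.fam = h'.fam) :
    v = v' ∧ cellSpan S a = cellSpan S' a' := by
  have key : ∀ {v v' : Fin D.s → ℕ} {S S' : Finset (Win D.c)} {a : CVar S → K} {a' : CVar S' → K}
      (h : D.IsPiece v S a) (h' : D.IsPiece v' S' a'), (∀ j, ∃ l, row S a l ⟨j, ⟨0, D.hc j⟩⟩ ≠ 0) →
      h.fam = h'.fam → ∀ j, v' j ≤ v j := by
    intro v v' S S' a a' h h' hu e j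
    by_contra hlt
    obtain ⟨l, hl⟩ := hu j
    obtain ⟨z, hz, hzd⟩ := h.exists_mem D (Submodule.subset_span ⟨l, rfl⟩) (v j + 1)
    have h1 := congrFun ((IsPiece.mem_fam D h').1 (e ▸ hz)) (Sum.inl ⟨j, ⟨v j, not_le.1 hlt⟩⟩)
    rw [ψ_inl] at h1
    have h2 := X_pow_dvd_iff.1 (hzd j) (v j) (Nat.lt_succ_self _)
    rw [map_sub, sub_eq_zero] at h2
    simp only [Pi.zero_apply] at h1
    rw [h1, sh_apply, coeff_X_pow_mul', if_pos le_rfl, Nat.sub_self] at h2
    exact hl (by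
      have h3 := congrFun (trunc_lift D.c (row S a l)) ⟨j, ⟨0, D.hc j⟩⟩
      rw [← h3, trunc_apply]
      exact h2.symm)
  have hle : ∀ {v : Fin D.s → ℕ} {S S' : Finset (Win D.c)} {a : CVar S → K} {a' : CVar S' → K}
      (h : D.IsPiece v S a) (h' : D.IsPiece v S' a'), h.fam = h'.fam → cellSpan S a ≤ cellSpan S' a' := by
    intro v S S' a a' h h' e y hy
    obtain ⟨z, hz, hzd⟩ := h.exists_mem D hy (∑ j, (v j + D.c j))
    obtain ⟨g', hg', hg''⟩ := (D.ψ_eq_zero_iff a').1 ((IsPiece.mem_fam D h').1 (e ▸ hz))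
    suffices trunc K D.c g' = y from this ▸ hg''
    rw [← win_sh D.c v g', ← hg']
    funext x
    have h2 := X_pow_dvd_iff.1 (hzd x.1) (x.2.1 + v x.1) (lt_of_lt_of_le (b := v x.1 + D.c x.1)
      (by have := x.2.2; omega) (Finset.single_le_sum (f := fun j => v j + D.c j) (fun _ _ => Nat.zero_le _)
        (Finset.mem_univ x.1)))
    rw [map_sub, sub_eq_zero] at h2
    rw [win_apply, h2, sh_apply, coeff_X_pow_mul]
    exact congrFun (trunc_lift D.c y) x
  obtain rfl : v = v' := funext fun j => le_antisymm (key h' h hu' e.symm j) (key h h' hu e j)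
  exact ⟨rfl, le_antisymm (hle h h' e) (hle h' h e.symm)⟩

end Groth.Agent.H27CurveSing.Data
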