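import Groth.Agent.H27CurveSing.Window
import Mathlib

/-! # Branch expansions of an algebra at a point and their base change -/

set_option autoImplicit false
set_option linter.style.haveILetI false

universe u

open PowerSeries TensorProduct

namespace Groth.Agent.H27CurveSing

/-- Expansions of `B` along the branches through a rational point `m`, with a conductor. -/
structure Data (k : Type u) [Field k] (B : Type u) [CommRing B] [Algebra k B] (m : Ideal B) where
  /-- the number of branches -/
  s : ℕ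
  /-- a conductor -/
  c : Fin s → ℕ
  hc : ∀ j, 0 < c j
  /-- the expansions -/
  φ : B →ₐ[k] (Fin s → k⟦X⟧)
  const : ∀ (b : B) (j : Fin s), b ∈ m → constantCoeff (φ b j) = 0
  residue : ∀ b : B, ∃ a : k, b - algebraMap k B a ∈ m
  conductor : ∀ g : Fin s → k⟦X⟧, (∀ j, X ^ c j ∣ g j) → ∀ M : ℕ, ∃ b, ∀ j, X ^ M ∣ φ b j - g j
  separated : ∀ N : ℕ, ∃ M : ℕ, ∀ b, (∀ j, X ^ M ∣ φ b j) → b ∈ m ^ N

section ext

variable {k : Type u} [Field k] (A : Type u) [CommRing A] [Algebra k A] {ι κ ν : Type}
  [Fintype ι] [DecidableEq ι] [Fintype κ] [DecidableEq κ]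

/-- Extension of scalars of a map of coordinate spaces. -/
noncomputable def extL (L : (ι → k) →ₗ[k] (κ → k)) : (ι → A) →ₗ[A] (κ → A) :=
  Matrix.toLin' ((LinearMap.toMatrix' L).map (algebraMap k A))

lemma extL_comp [Fintype ν] [DecidableEq ν] (L : (ι → k) →ₗ[k] (κ → k)) (L' : (κ → k) →ₗ[k] (ν → k)) :
    extL A (L' ∘ₗ L) = extL A L' ∘ₗ extL A L := by
  rw [extL, extL, extL, LinearMap.toMatrix'_comp, Matrix.map_mul, Matrix.toLin'_mul]

lemma extL_id : extL A (LinearMap.id : (ι → k) →ₗ[k] (ι → k)) = LinearMap.id := by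
  rw [extL, LinearMap.toMatrix'_id, Matrix.map_one _ (map_zero _) (map_one _), Matrix.toLin'_one]

lemma extL_algebraMap (L : (ι → k) →ₗ[k] (κ → k)) (z : ι → k) :
    extL A L (fun x => algebraMap k A (z x)) = fun y => algebraMap k A (L z y) := by
  funext y
  rw [extL, Matrix.toLin'_apply, ← LinearMap.toMatrix'_mulVec L z]
  exact (RingHom.map_mulVec (algebraMap k A) _ _ y).symm

lemma extL_map {A' : Type u} [CommRing A'] [Algebra k A'] (χ : A →ₐ[k] A') (L : (ι → k) →ₗ[k] (κ → k))
    (z : ι → A) (y : κ) : χ (extL A L z y) = extL A' L (fun x => χ (z x)) y := by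
  simp [extL, Matrix.toLin'_apply, Matrix.mulVec, dotProduct]

end ext

namespace Data

variable {k : Type u} [Field k] {B : Type u} [CommRing B] [Algebra k B] {m : Ideal B} (D : Data k B m)

/-- The image of the expansions modulo the conductor. -/
noncomputable def im : Submodule k (Win D.c → k) := LinearMap.range ((trunc k D.c).comp D.φ.toLinearMap)

/-- The dimension of the image modulo the conductor. -/
noncomputable def q : ℕ := Module.finrank k D.im

/-- The codimension of the image. -/
noncomputable def δ : ℕ := Module.finrank k ((Win D.c → k) ⧸ D.im)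

lemma q_add_δ : D.q + D.δ = Fintype.card (Win D.c) := by
  rw [q, δ, add_comm, Submodule.finrank_quotient_add_finrank, Module.finrank_pi]

/-- The equations of the image. -/
noncomputable def E : (Win D.c → k) →ₗ[k] (Fin D.δ → k) :=
  (Module.finBasis k ((Win D.c → k) ⧸ D.im)).equivFun.toLinearMap ∘ₗ D.im.mkQ

lemma ker_E : LinearMap.ker D.E = D.im := by
  rw [E, LinearEquiv.ker_comp, Submodule.ker_mkQ]

lemma exists_S : ∃ S : (Fin D.δ → k) →ₗ[k] (Win D.c → k), D.E ∘ₗ S = LinearMap.id :=
  D.E.exists_rightInverse_of_surjective (LinearMap.range_eq_top.2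
    ((Module.finBasis k ((Win D.c → k) ⧸ D.im)).equivFun.surjective.comp (Submodule.mkQ_surjective _)))

variable (A : Type u) [CommRing A] [Algebra k A]

/-- Extension of scalars of tuples of power series. -/
noncomputable def serHom : (Fin D.s → k⟦X⟧) →ₐ[k] (Fin D.s → A⟦X⟧) :=
  { mapS (algebraMap k A) with
    commutes' := fun r => funext fun j => by
      show PowerSeries.map (algebraMap k A) (algebraMap k k⟦X⟧ r) = algebraMap k A⟦X⟧ r
      simp [PowerSeries.algebraMap_apply] }

/-- The expansions of a family. -/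
noncomputable def φA : A ⊗[k] B →ₐ[A] (Fin D.s → A⟦X⟧) :=
  Algebra.TensorProduct.lift (Algebra.ofId A (Fin D.s → A⟦X⟧)) ((D.serHom A).comp D.φ) fun _ _ => Commute.all _ _

lemma φA_tmul (a : A) (b : B) : D.φA A (a ⊗ₜ b) = a • mapS (algebraMap k A) (D.φ b) := by
  rw [φA, Algebra.TensorProduct.lift_tmul, Algebra.smul_def]
  rfl

lemma coeff_φA_tmul (a : A) (b : B) (j : Fin D.s) (i : ℕ) :
    coeff i (D.φA A (a ⊗ₜ b) j) = a * algebraMap k A (coeff i (D.φ b j)) := by
  rw [φA_tmul, Pi.smul_apply, mapS_apply, map_smul, PowerSeries.coeff_map, smul_eq_mul]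

lemma trunc_φA_tmul (a : A) (b : B) :
    trunc A D.c (D.φA A (a ⊗ₜ b)) = a • fun x => algebraMap k A (trunc k D.c (D.φ b) x) := by
  funext x
  rw [trunc_apply, coeff_φA_tmul, Pi.smul_apply, trunc_apply, smul_eq_mul]

lemma φA_map {A' : Type u} [CommRing A'] [Algebra k A'] (χ : A →ₐ[k] A') (z : A ⊗[k] B) :
    D.φA A' (Algebra.TensorProduct.map χ (AlgHom.id k B) z) = mapS χ.toRingHom (D.φA A z) := by
  induction z using TensorProduct.induction_on with
  | zero => simp
  | tmul a b =>
    funext j; ext i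
    rw [Algebra.TensorProduct.map_tmul, AlgHom.id_apply, mapS_apply, PowerSeries.coeff_map, coeff_φA_tmul,
      coeff_φA_tmul, AlgHom.toRingHom_eq_coe, RingHom.coe_coe, map_mul, AlgHom.commutes]
  | add p q hp hq => simp [hp, hq]

/-- The equations vanish on families. -/
theorem E_trunc_φA (z : A ⊗[k] B) : extL A D.E (trunc A D.c (D.φA A z)) = 0 := by
  induction z using TensorProduct.induction_on with
  | zero => simp
  | tmul a b =>
    rw [trunc_φA_tmul, map_smul, extL_algebraMap,
      show D.E (trunc k D.c (D.φ b)) = 0 from LinearMap.mem_ker.1 (D.ker_E.symm ▸ ⟨b, rfl⟩)]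
    funext y
    simp
  | add p q hp hq => rw [map_add, map_add, map_add, hp, hq, add_zero]

/-- The equations cut out the image. -/
theorem exists_of_E {y : Win D.c → A} (hy : extL A D.E y = 0) : ∃ z, trunc A D.c (D.φA A z) = y := by
  classical
  obtain ⟨S, hS⟩ := D.exists_S
  let P : (Win D.c → k) →ₗ[k] (Win D.c → k) := LinearMap.id - S ∘ₗ D.E
  have hmem : ∀ x, P (Pi.single x 1) ∈ D.im := fun x => by
    rw [← D.ker_E, LinearMap.mem_ker]
    simp only [P, LinearMap.sub_apply, LinearMap.id_apply, LinearMap.coe_comp, Function.comp_apply, map_sub]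
    rw [← LinearMap.comp_apply D.E S, hS, LinearMap.id_apply, sub_self]
  choose b hb using hmem
  refine ⟨∑ x, y x ⊗ₜ[k] b x, ?_⟩
  have h1 : extL A P y = y := by
    have h2 : extL A (S ∘ₗ D.E) y = 0 := by rw [extL_comp, LinearMap.comp_apply, hy, map_zero]
    have h3 : extL A P + extL A (S ∘ₗ D.E) = LinearMap.id := by
      rw [← extL_id (k := k) A, extL, extL, extL, ← map_add, ← Matrix.map_add _ (map_add _), ← map_add, sub_add_cancel]
    have := LinearMap.congr_fun h3 y
    rwa [LinearMap.add_apply, h2, add_zero] at this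
  conv_rhs => rw [← h1]
  rw [map_sum, map_sum]
  funext w
  rw [Finset.sum_apply, extL, Matrix.toLin'_apply, Matrix.mulVec, dotProduct]
  refine Finset.sum_congr rfl fun x _ => ?_
  rw [trunc_φA_tmul, Pi.smul_apply, smul_eq_mul, Matrix.map_apply, LinearMap.toMatrix'_apply, mul_comm]
  congr 2
  refine (congrFun (show trunc k D.c (D.φ (b x)) = P (Pi.single x 1) from hb x) w).trans ?_
  rfl

/-- Any tuple satisfying the equations is approximated by families. -/
theorem exists_approx {g : Fin D.s → A⟦X⟧} (hg : extL A D.E (trunc A D.c g) = 0) (M : ℕ) :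
    ∃ z, ∀ j, X ^ M ∣ D.φA A z j - g j := by
  classical
  obtain ⟨z₀, hz₀⟩ := D.exists_of_E A hg
  set g' := g - D.φA A z₀ with hg'
  have hlow : ∀ (j : Fin D.s) (i : ℕ), i < D.c j → coeff i (g' j) = 0 := fun j i hi => by
    have := congrFun hz₀ ⟨j, ⟨i, hi⟩⟩
    simp only [trunc_apply] at this
    rw [hg', Pi.sub_apply, map_sub, this, sub_self]
  have hcond : ∀ x : (j : Fin D.s) × Fin M, D.c x.1 ≤ x.2.1 →
      ∃ b, ∀ j, X ^ M ∣ D.φ b j - (Pi.single x.1 (X ^ x.2.1) : Fin D.s → k⟦X⟧) j := fun x hx =>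
    D.conductor _ (fun j => by
      rcases eq_or_ne j x.1 with rfl | hj
      · rw [Pi.single_eq_same]; exact pow_dvd_pow X hx
      · rw [Pi.single_eq_of_ne hj]; exact dvd_zero _) M
  choose b hb using hcond
  let T : (j : Fin D.s) × Fin M → A ⊗[k] B := fun x =>
    if h : D.c x.1 ≤ x.2.1 then coeff x.2.1 (g' x.1) ⊗ₜ b x h else 0
  refine ⟨z₀ + ∑ x, T x, fun j => ?_⟩
  rw [X_pow_dvd_iff]
  intro i hi
  have key : ∀ x, coeff i (D.φA A (T x) j) = if x = ⟨j, ⟨i, hi⟩⟩ then coeff i (g' j) else 0 := fun x => by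
    simp only [T]
    split_ifs with h hx hx
    · subst hx
      have := X_pow_dvd_iff.1 (hb _ h j) i hi
      rw [map_sub, sub_eq_zero, Pi.single_eq_same, coeff_X_pow, if_pos rfl] at this
      rw [coeff_φA_tmul, this, map_one, mul_one]
    · have := X_pow_dvd_iff.1 (hb _ h j) i hi
      rw [map_sub, sub_eq_zero] at this
      rw [coeff_φA_tmul, this]
      rcases eq_or_ne j x.1 with rfl | hj
      · rw [Pi.single_eq_same, coeff_X_pow, if_neg, map_zero, mul_zero]
        exact fun e => hx (by obtain ⟨j, i'⟩ := x; subst e; rfl)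
      · rw [Pi.single_eq_of_ne hj, map_zero, map_zero, mul_zero]
    · subst hx
      rw [hlow j i (not_le.1 h)]; simp
    · simp
  rw [map_add, Pi.add_apply, map_sum, Finset.sum_apply, map_sub, map_add, map_sum, Finset.sum_congr rfl fun x _ => key x,
    Finset.sum_ite_eq' Finset.univ, if_pos (Finset.mem_univ _), hg', Pi.sub_apply, map_sub]
  abel

end Data

end Groth.Agent.H27CurveSing
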