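import Groth.Agent.H27CurveSing.Data
import Groth.Agent.H27CurveSing.Cells
import Groth.Agent.H27HilbAff.Coord
import Mathlib

/-! # The family attached to a window subspace -/

set_option autoImplicit false
set_option linter.style.haveILetI false

universe u

open PowerSeries TensorProduct

namespace Groth.Agent.H27CurveSing.Data

variable {k : Type u} [Field k] {B : Type u} [CommRing B] [Algebra k B] {m : Ideal B} (D : Data k B m)
  (A : Type u) [CommRing A] [Algebra k A]

/-- A basis of the image modulo the conductor. -/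
noncomputable def gen (i : Fin D.q) : Win D.c → k := (Module.finBasis k D.im i : Win D.c → k)

lemma trunc_φA_mem (z : A ⊗[k] B) :
    trunc A D.c (D.φA A z) ∈ Submodule.span A (Set.range fun i => fun x => algebraMap k A (D.gen i x)) := by
  induction z using TensorProduct.induction_on with
  | zero => simp
  | tmul a b =>
    rw [trunc_φA_tmul]
    refine Submodule.smul_mem _ a ?_
    let w : D.im := ⟨trunc k D.c (D.φ b), b, rfl⟩
    have : (fun x => algebraMap k A (trunc k D.c (D.φ b) x)) =
        ∑ i, algebraMap k A ((Module.finBasis k D.im).repr w i) • fun x => algebraMap k A (D.gen i x) := by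
      funext x
      have h := congrArg (fun z : D.im => (z : Win D.c → k) x) ((Module.finBasis k D.im).sum_repr w)
      simp only [AddSubmonoidClass.coe_finsetSum, SetLike.val_smul, Finset.sum_apply, Pi.smul_apply, smul_eq_mul] at h
      simp only [Finset.sum_apply, Pi.smul_apply, smul_eq_mul, ← map_mul, ← map_sum]
      exact congrArg _ h.symm
    rw [this]
    exact Submodule.sum_mem _ fun i _ => Submodule.smul_mem _ _ (Submodule.subset_span ⟨i, rfl⟩)
  | add p q hp hq => rw [map_add, map_add]; exact add_mem hp hq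

variable {A}

/-- The equations of a piece. -/
structure IsPiece (v : Fin D.s → ℕ) (S : Finset (Win D.c)) (a : CVar S → A) : Prop where
  shift : ∀ l, extL A D.E (shW A D.c v (row S a l)) = 0
  stable : ∀ i l, res S a (mulW A D.c (fun x => algebraMap k A (D.gen i x)) (row S a l)) = 0

lemma IsPiece.stable' {v : Fin D.s → ℕ} {S : Finset (Win D.c)} {a : CVar S → A} (h : D.IsPiece v S a)
    (z : A ⊗[k] B) {y : Win D.c → A} (hy : y ∈ cellSpan S a) :
    mulW A D.c (trunc A D.c (D.φA A z)) y ∈ cellSpan S a := by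
  have h1 := D.trunc_φA_mem A z
  generalize trunc A D.c (D.φA A z) = x at h1
  induction h1 using Submodule.span_induction with
  | zero => simp [mulW]
  | add _ _ _ _ hp hq => rw [mulW_add_left]; exact add_mem hp hq
  | smul r _ _ hp => rw [mulW_smul_left]; exact Submodule.smul_mem _ r hp
  | mem x hx =>
    obtain ⟨i, rfl⟩ := hx
    induction hy using Submodule.span_induction with
    | zero => simp [mulW]
    | add _ _ _ _ hp hq => rw [mulW_add_right]; exact add_mem hp hq
    | smul r _ _ hp => rw [mulW_smul_right]; exact Submodule.smul_mem _ r hp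
    | mem y hy => obtain ⟨l, rfl⟩ := hy; exact mem_cellSpan_iff.2 (h.stable i l)

variable (v : Fin D.s → ℕ) (S : Finset (Win D.c))

/-- The coordinates of the colength. -/
abbrev Y : Type := Win v ⊕ {y // y ∉ S}

variable {v S} (a : CVar S → A)

/-- The coordinates of a tuple of series modulo the piece. -/
noncomputable def ψ (a : CVar S → A) : (Fin D.s → A⟦X⟧) →ₗ[A] (D.Y v S → A) :=
  LinearMap.pi (Sum.elim (fun x => (coeff x.2.1) ∘ₗ LinearMap.proj x.1)
    fun y => LinearMap.proj y ∘ₗ res S a ∘ₗ win A D.c v)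

lemma ψ_inl (g : Fin D.s → A⟦X⟧) (x : Win v) :
    D.ψ (v := v) a g (Sum.inl x) = coeff x.2.1 (g x.1) := rfl

lemma ψ_inr (g : Fin D.s → A⟦X⟧) (y : {y // y ∉ S}) :
    D.ψ (v := v) a g (Sum.inr y) = res S a (win A D.c v g) y := rfl

lemma ψ_eq_zero_iff {g : Fin D.s → A⟦X⟧} :
    D.ψ (v := v) a g = 0 ↔ ∃ g', g = sh A v g' ∧ trunc A D.c g' ∈ cellSpan S a := by
  constructor
  · intro h
    obtain ⟨g', rfl⟩ := eq_sh (A := A) (v := v) (g := g) fun j i hi => congrFun h (Sum.inl ⟨j, ⟨i, hi⟩⟩)
    refine ⟨g', rfl, mem_cellSpan_iff.2 (funext fun y => ?_)⟩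
    have := congrFun h (Sum.inr y)
    rwa [ψ_inr, win_sh] at this
  · rintro ⟨g', rfl, hg⟩
    funext x
    rcases x with ⟨j, i⟩ | y
    · rw [ψ_inl, sh_apply, coeff_X_pow_mul', if_neg (not_le.2 i.2)]; rfl
    · rw [ψ_inr, win_sh, mem_cellSpan_iff.1 hg]; rfl

/-- A section of the coordinates. -/
noncomputable def σ : (D.Y v S → A) →ₗ[A] (Fin D.s → A⟦X⟧) :=
  lift A v ∘ₗ LinearMap.funLeft A A Sum.inl +
    sh A v ∘ₗ lift A D.c ∘ₗ fill S ∘ₗ LinearMap.funLeft A A Sum.inr

lemma ψ_σ (y : D.Y v S → A) : D.ψ a (D.σ y) = y := by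
  funext x
  rcases x with ⟨j, i⟩ | x
  · rw [ψ_inl, σ]
    simp only [LinearMap.add_apply, LinearMap.coe_comp, Function.comp_apply, Pi.add_apply, map_add, sh_apply]
    rw [coeff_X_pow_mul', if_neg (not_le.2 i.2), add_zero]
    exact congrFun (trunc_lift v (LinearMap.funLeft A A Sum.inl y)) ⟨j, i⟩
  · rw [ψ_inr, σ]
    simp only [LinearMap.add_apply, LinearMap.coe_comp, Function.comp_apply, map_add, win_sh, trunc_lift, res_fill]
    rw [show win A D.c v (lift A v (LinearMap.funLeft A A Sum.inl y)) = 0 from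
      funext fun z => coeff_lift_of_le v _ (Nat.le_add_left _ _), map_zero, zero_add]
    rfl

variable {a}

lemma IsPiece.E_of_ψ (h : D.IsPiece v S a) {g : Fin D.s → A⟦X⟧} (hg : D.ψ (v := v) a g = 0) :
    extL A D.E (trunc A D.c g) = 0 := by
  obtain ⟨g', rfl, hg'⟩ := (D.ψ_eq_zero_iff a).1 hg
  rw [trunc_sh]
  generalize trunc A D.c g' = y at hg'
  induction hg' using Submodule.span_induction with
  | zero => simp
  | add _ _ _ _ hp hq => rw [map_add, map_add, hp, hq, add_zero]
  | smul r _ _ hp => rw [map_smul, map_smul, hp, smul_zero]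
  | mem y hy => obtain ⟨l, rfl⟩ := hy; exact h.shift l

/-- The family of a piece. -/
noncomputable def IsPiece.fam (h : D.IsPiece v S a) : Ideal (A ⊗[k] B) where
  carrier := {z | D.ψ (v := v) a (D.φA A z) = 0}
  zero_mem' := by simp
  add_mem' := fun {p q} hp hq => by
    show D.ψ (v := v) a (D.φA A (p + q)) = 0
    rw [map_add, map_add, show D.ψ (v := v) a (D.φA A p) = 0 from hp,
      show D.ψ (v := v) a (D.φA A q) = 0 from hq, add_zero]
  smul_mem' := fun f z hz => by
    obtain ⟨g', hg', hg''⟩ := (D.ψ_eq_zero_iff a).1 (show D.ψ (v := v) a (D.φA A z) = 0 from hz)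
    refine (D.ψ_eq_zero_iff a).2 ⟨D.φA A f * g', ?_, ?_⟩
    · rw [smul_eq_mul, map_mul, hg']
      funext j
      simp [mul_left_comm]
    · rw [trunc_mul]; exact h.stable' D f hg''

lemma IsPiece.mem_fam (h : D.IsPiece v S a) {z : A ⊗[k] B} : z ∈ h.fam ↔ D.ψ (v := v) a (D.φA A z) = 0 := Iff.rfl

/-- The rank of the family. -/
theorem IsPiece.quotient (h : D.IsPiece v S a) :
    Module.Finite A ((A ⊗[k] B) ⧸ h.fam) ∧ Module.Flat A ((A ⊗[k] B) ⧸ h.fam) ∧
      ∀ p, Module.rankAtStalk (R := A) ((A ⊗[k] B) ⧸ h.fam) p + S.card = (∑ j, v j) + D.q := by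
  classical
  obtain ⟨Sec, hSec⟩ := D.exists_S
  let G : (D.Y v S → A) →ₗ[A] (Fin D.δ → A) := extL A D.E ∘ₗ trunc A D.c ∘ₗ D.σ
  have hG : ∀ g, G (D.ψ a g) = extL A D.E (trunc A D.c g) := fun g => by
    have h0 : D.ψ (v := v) a (D.σ (v := v) (D.ψ (v := v) a g) - g) = 0 := by rw [map_sub, ψ_σ, sub_self]
    have := h.E_of_ψ D h0
    rw [map_sub, map_sub, sub_eq_zero] at this
    exact this
  let R : (Fin D.δ → A) →ₗ[A] (D.Y v S → A) := D.ψ a ∘ₗ lift A D.c ∘ₗ extL A Sec
  have hR : ∀ y, G (R y) = y := fun y => by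
    show G (D.ψ a (lift A D.c (extL A Sec y))) = y
    rw [hG, trunc_lift, ← LinearMap.comp_apply, ← extL_comp, hSec, extL_id, LinearMap.id_apply]
  let Φ : A ⊗[k] B →ₗ[A] (D.Y v S → A) := D.ψ a ∘ₗ (D.φA A).toLinearMap
  have hker : h.fam.restrictScalars A = LinearMap.ker Φ := rfl
  have hrange : LinearMap.range Φ = LinearMap.ker G := by
    refine le_antisymm ?_ fun y hy => ?_
    · rintro _ ⟨z, rfl⟩
      show G (D.ψ a (D.φA A z)) = 0
      rw [hG, E_trunc_φA]
    · obtain ⟨z, hz⟩ := D.exists_approx A (g := D.σ y) (show extL A D.E (trunc A D.c (D.σ y)) = 0 from hy)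
        (∑ j, (v j + D.c j))
      refine ⟨z, ?_⟩
      show D.ψ a (D.φA A z) = y
      conv_rhs => rw [← D.ψ_σ a y]
      rw [← sub_eq_zero, ← map_sub, ψ_eq_zero_iff]
      have hdvd : ∀ j, X ^ (v j + D.c j) ∣ (D.φA A z - D.σ y) j := fun j =>
        (pow_dvd_pow X (Finset.single_le_sum (f := fun j => v j + D.c j) (fun _ _ => Nat.zero_le _)
          (Finset.mem_univ j))).trans (hz j)
      choose r hr using hdvd
      refine ⟨fun j => X ^ D.c j * r j, funext fun j => by rw [hr j, sh_apply, pow_add, mul_assoc], ?_⟩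
      rw [show trunc A D.c (fun j => X ^ D.c j * r j) = 0 from funext fun x => by
        simp [coeff_X_pow_mul', not_le.2 x.2.2]]
      exact zero_mem _
  let e₁ : ((A ⊗[k] B) ⧸ h.fam) ≃ₗ[A] LinearMap.ker G :=
    (Submodule.Quotient.restrictScalarsEquiv A h.fam).symm ≪≫ₗ Submodule.quotEquivOfEq _ _ hker ≪≫ₗ
      Φ.quotKerEquivRange ≪≫ₗ LinearEquiv.ofEq _ _ hrange
  let e₂ : (D.Y v S → A) ≃ₗ[A] LinearMap.ker G × (Fin D.δ → A) :=
    LinearEquiv.ofLinearMap ((LinearMap.codRestrict _ (LinearMap.id - R ∘ₗ G) fun y => by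
        show G (y - R (G y)) = 0
        rw [map_sub, hR, sub_self]).prod G)
      ((LinearMap.ker G).subtype.coprod R)
      (LinearMap.ext fun p => by
        obtain ⟨⟨y, hy⟩, w⟩ := p
        have hy' : G y = 0 := hy
        refine Prod.ext (Subtype.ext ?_) ?_
        · simp [hR, hy', map_add]
        · simp [hR, hy', map_add])
      (LinearMap.ext fun y => by simp)
  haveI : Module.Finite A (LinearMap.ker G) :=
    Module.Finite.of_surjective ((LinearMap.fst A _ _).comp e₂.toLinearMap)
      (Prod.fst_surjective.comp e₂.surjective)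
  haveI : Module.Projective A (LinearMap.ker G) :=
    Module.Projective.of_split (M := D.Y v S → A) (LinearMap.ker G).subtype ((LinearMap.fst A _ _).comp e₂.toLinearMap)
      (LinearMap.ext fun y => by
        have hy' : G (y : D.Y v S → A) = 0 := y.2
        exact Subtype.ext (by simp [e₂, hy']))
  haveI : Module.Flat A (LinearMap.ker G) := Module.Flat.of_projective
  refine ⟨Module.Finite.equiv e₁.symm, Module.Flat.of_linearEquiv e₁, fun p => ?_⟩
  haveI : Nontrivial A := p.nontrivial
  rw [Module.rankAtStalk_eq_of_equiv e₁]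
  have h2 := congrFun (Module.rankAtStalk_eq_of_equiv e₂) p
  rw [Module.rankAtStalk_prod, Pi.add_apply, Module.rankAtStalk_eq_finrank_of_free (M := D.Y v S → A),
    Module.rankAtStalk_eq_finrank_of_free (M := Fin D.δ → A)] at h2
  simp only [Pi.natCast_def, Pi.natCast_apply, Nat.cast_id, Module.finrank_pi, Fintype.card_sum, card_win, Fintype.card_fin] at h2
  have h3 : Fintype.card {y : Win D.c // y ∉ S} = Fintype.card (Win D.c) - S.card := by
    rw [Fintype.card_subtype_compl, Fintype.card_coe]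
  have h4 : S.card ≤ Fintype.card (Win D.c) := S.card_le_univ
  have h5 := D.q_add_δ
  rw [h3] at h2
  omega

/-- Functoriality of the coordinates. -/
lemma ψ_map {A' : Type u} [CommRing A'] [Algebra k A'] (χ : A →ₐ[k] A') (g : Fin D.s → A⟦X⟧) (x : D.Y v S) :
    D.ψ (v := v) (fun y => χ (a y)) (mapS χ.toRingHom g) x = χ (D.ψ (v := v) a g x) := by
  rcases x with x | y
  · simp [ψ_inl]
  · rw [ψ_inr, ψ_inr, show (win A' D.c v (mapS χ.toRingHom g)) = fun z => χ (win A D.c v g z) from
      funext fun z => win_mapS χ.toRingHom D.c v g z]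
    exact (res_map χ.toRingHom S a _ y).symm

lemma IsPiece.map (h : D.IsPiece v S a) {A' : Type u} [CommRing A'] [Algebra k A'] (χ : A →ₐ[k] A') :
    D.IsPiece v S fun y => χ (a y) := by
  refine ⟨fun l => funext fun y => ?_, fun i l => funext fun y => ?_⟩
  · have h1 := congrArg χ (congrFun (h.shift l) y)
    rw [extL_map, Pi.zero_apply, map_zero] at h1
    rw [Pi.zero_apply, ← h1]
    refine congrFun (congrArg _ (funext fun x => ?_)) y
    rw [show χ (shW A D.c v (row S a l) x) = χ.toRingHom (shW A D.c v (row S a l) x) from rfl, shW_map]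
    exact congrFun (congrArg _ (funext fun z => (row_map χ.toRingHom S a l z).symm)) x
  · have h1 := congrArg χ.toRingHom (congrFun (h.stable i l) y)
    rw [res_map, Pi.zero_apply, map_zero] at h1
    rw [Pi.zero_apply, ← h1]
    refine congrFun (congrArg _ (funext fun x => ?_)) y
    rw [mulW_map]
    congr 2
    · funext z; exact (χ.commutes _).symm
    · funext z; exact (row_map χ.toRingHom S a l z).symm

/-- Base change of the family is contained in the family of the point. -/
theorem IsPiece.map_fam_le (h : D.IsPiece v S a) {A' : Type u} [CommRing A'] [Algebra k A'] (χ : A →ₐ[k] A') :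
    h.fam.map (H27HilbAff.bc χ) ≤ (h.map D χ).fam := by
  rw [Ideal.map_le_iff_le_comap]
  intro z hz
  rw [Ideal.mem_comap, IsPiece.mem_fam]
  have : D.φA A' (H27HilbAff.bc χ z) = mapS χ.toRingHom (D.φA A z) := D.φA_map A χ z
  rw [this]
  funext x
  rw [ψ_map, show D.ψ (v := v) a (D.φA A z) = 0 from hz]
  exact map_zero χ

end Groth.Agent.H27CurveSing.Data
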