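import Mathlib

/-! # Series of counts of tuples with prescribed truncation -/

set_option autoImplicit false

universe u

open PowerSeries Finset

namespace Groth.Agent.H27CurveSing

variable {R : Type u} [CommRing R] {s : ℕ}

/-- The series becomes a polynomial after multiplying by a power of `1 - X`. -/
def EvPoly (s : ℕ) (F : R⟦X⟧) : Prop := ∃ P : Polynomial R, F * (1 - X : R⟦X⟧) ^ s = P

lemma exists_poly_of_coeff_eq_zero {F : R⟦X⟧} {N : ℕ} (h : ∀ i, N ≤ i → coeff i F = 0) :
    ∃ P : Polynomial R, F = P := ⟨PowerSeries.trunc N F, by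
  ext i
  rw [Polynomial.coeff_coe, PowerSeries.coeff_trunc]
  split_ifs with hi
  · rfl
  · exact h i (not_lt.1 hi)⟩

lemma evPoly_sum {ι : Type*} (t : Finset ι) (F : ι → R⟦X⟧) (h : ∀ i ∈ t, EvPoly s (F i)) :
    EvPoly s (∑ i ∈ t, F i) := by
  classical
  induction t using Finset.induction with
  | empty => exact ⟨0, by simp⟩
  | insert a t ha ih =>
    obtain ⟨P, hP⟩ := h a (mem_insert_self a t)
    obtain ⟨Q, hQ⟩ := ih fun i hi => h i (mem_insert_of_mem hi)
    exact ⟨P + Q, by rw [sum_insert ha, add_mul, hP, hQ, Polynomial.coe_add]⟩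

lemma EvPoly.C_mul {F : R⟦X⟧} (h : EvPoly s F) (r : R) : EvPoly s (C r * F) := by
  obtain ⟨P, hP⟩ := h
  exact ⟨Polynomial.C r * P, by rw [mul_assoc, hP, Polynomial.coe_mul, Polynomial.coe_C]⟩

lemma EvPoly.shift {F G : R⟦X⟧} (h : EvPoly s F) (q n : ℕ)
    (hG : ∀ d, coeff d G = if q ≤ d + n then coeff (d + n - q) F else 0) : EvPoly s G := by
  obtain ⟨P, hP⟩ := h
  have h1 : X ^ n * G = X ^ q * F - (PowerSeries.trunc n (X ^ q * F) : R⟦X⟧) := by
    ext i
    rw [map_sub, Polynomial.coeff_coe, PowerSeries.coeff_trunc, coeff_X_pow_mul']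
    rcases le_or_gt n i with hi | hi
    · rw [if_pos hi, if_neg (not_lt.2 hi), sub_zero, hG, Nat.sub_add_cancel hi, coeff_X_pow_mul']
    · rw [if_neg (not_le.2 hi), if_pos hi, sub_self]
  let Q : Polynomial R := Polynomial.X ^ q * P - PowerSeries.trunc n (X ^ q * F) * (1 - Polynomial.X) ^ s
  have h2 : X ^ n * (G * (1 - X) ^ s) = (Q : R⟦X⟧) := by
    rw [← mul_assoc, h1, sub_mul, mul_assoc, hP]
    simp [Q]
  obtain ⟨N, hN⟩ : ∃ N, ∀ i, N ≤ i → Q.coeff i = 0 :=
    ⟨Q.natDegree + 1, fun i hi => Polynomial.coeff_eq_zero_of_natDegree_lt hi⟩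
  refine exists_poly_of_coeff_eq_zero (N := N) fun i hi => ?_
  have := congrArg (coeff (i + n)) h2
  rwa [coeff_X_pow_mul, Polynomial.coeff_coe, hN _ (hi.trans le_self_add)] at this

/-- The number of tuples of total `e` with prescribed truncation. -/
noncomputable def cnt (w c : Fin s → ℕ) (e : ℕ) : ℕ :=
  Nat.card {v : Fin s → ℕ // (∀ j, min (v j) (c j) = w j) ∧ ∑ j, v j = e}

/-- The series of the counts is rational with denominator a power of `1 - X`. -/
theorem evPoly_cnt (w c : Fin s → ℕ) : EvPoly s (PowerSeries.mk fun e => (cnt w c e : R)) := by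
  classical
  let f : Fin s → R⟦X⟧ := fun j => PowerSeries.mk fun i => if min i (c j) = w j then 1 else 0
  have hprod : PowerSeries.mk (fun e => (cnt w c e : R)) = ∏ j, f j := by
    ext e
    rw [coeff_mk, coeff_prod]
    simp only [f, coeff_mk, Finset.prod_boole, Finset.mem_univ, forall_const]
    rw [Finset.sum_boole]
    congr 1
    rw [cnt, ← Nat.card_eq_finsetCard]
    exact Nat.card_congr
      { toFun := fun v => ⟨Finsupp.equivFunOnFinite.symm v.1, mem_filter.2 ⟨mem_finsuppAntidiag.2 ⟨by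
          simpa using v.2.2, subset_univ _⟩, by simpa using v.2.1⟩⟩
        invFun := fun l => ⟨⇑l.1, (mem_filter.1 l.2).2, (mem_finsuppAntidiag.1 (mem_filter.1 l.2).1).1⟩
        left_inv := fun v => Subtype.ext (by simp)
        right_inv := fun l => Subtype.ext (by simp) }
  have hf : ∀ j, ∃ P : Polynomial R, f j * (1 - X : R⟦X⟧) = P := fun j => by
    refine exists_poly_of_coeff_eq_zero (N := w j + c j + 2) fun i hi => ?_
    obtain ⟨i, rfl⟩ : ∃ i', i = i' + 1 := ⟨i - 1, by omega⟩
    rw [mul_sub, mul_one, map_sub, coeff_succ_mul_X]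
    simp only [f, coeff_mk, Nat.min_eq_right (by omega : c j ≤ i + 1), Nat.min_eq_right (by omega : c j ≤ i), sub_self]
  choose P hP using hf
  refine ⟨∏ j, P j, ?_⟩
  rw [hprod, show ((1 : R⟦X⟧) - X) ^ s = ∏ _j : Fin s, (1 - X) by simp, ← Finset.prod_mul_distrib,
    Finset.prod_congr rfl fun j _ => hP j]
  exact (map_prod (Polynomial.coeToPowerSeries.ringHom (R := R)) P univ).symm

/-- The counts with prescribed truncation are eventually positive or eventually zero. -/
theorem exists_tuple_iff (w c : Fin s → ℕ) (hw : ∀ j, w j ≤ c j) {e : ℕ} (he : (∑ j, w j) < e) :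
    (∃ v : Fin s → ℕ, (∀ j, min (v j) (c j) = w j) ∧ ∑ j, v j = e) ↔ ∃ j, w j = c j := by
  classical
  constructor
  · rintro ⟨v, hv, hve⟩
    by_contra! h
    have : v = w := funext fun j => by
      have := hv j; have := h j; have := hw j; omega
    subst this
    omega
  · rintro ⟨j₀, hj⟩
    refine ⟨Function.update w j₀ (w j₀ + (e - ∑ j, w j)), fun j => ?_, ?_⟩
    · rcases eq_or_ne j j₀ with rfl | hne
      · rw [Function.update_self]; omega
      · rw [Function.update_of_ne hne]; exact min_eq_left (hw j)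
    · rw [Finset.sum_update_of_mem (mem_univ j₀)]
      have := Finset.sum_eq_sum_sdiff_singleton_add (mem_univ j₀) w
      omega

end Groth.Agent.H27CurveSing
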