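import Groth.Agent.H27CurveSing.Pieces
import Groth.Agent.H27CurveSing.Branch
import Groth.Agent.H27CurveSing.Series
import Groth.Agent.H27PunctStrat.Classes
import Groth.Prelude.Def_Brnch
import Mathlib

/-! # Punctual Hilbert schemes of a curve singularity -/

set_option autoImplicit false
set_option linter.style.haveILetI false
set_option backward.isDefEq.respectTransparency false
set_option backward.isDefEq.respectTransparency.types false

universe u

open CategoryTheory CategoryTheory.Limits AlgebraicGeometry TensorProduct CommRingCat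

namespace Groth.Agent.H27CurveSing

open H27HilbAff H27PunctStrat

section branches

/-- The number of branches is invariant under isomorphisms. -/
theorem numBranches_congr {A A' : Type u} [CommRing A] [CommRing A'] [IsLocalRing A] [IsLocalRing A']
    [IsNoetherianRing A] [IsNoetherianRing A'] (e : A ≃+* A') : Brnch.numBranches A = Brnch.numBranches A' := by
  have hnil : nilradical A' = (nilradical A).map (e : A →+* A') := by
    ext b
    rw [Ideal.mem_map_iff_of_surjective (e : A →+* A') e.surjective, mem_nilradical]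
    exact ⟨fun hb => ⟨e.symm b, mem_nilradical.mpr (hb.map e.symm), e.apply_symm_apply b⟩,
      fun ⟨a, ha, hab⟩ => hab ▸ (mem_nilradical.mp ha).map e⟩
  let e₁ : CAlg2.red A ≃+* CAlg2.red A' := Ideal.quotientEquiv _ _ e hnil
  let φ : FractionRing (CAlg2.red A) ≃+* FractionRing (CAlg2.red A') := IsFractionRing.ringEquivOfRingEquiv e₁
  have hφ : ∀ a, φ (algebraMap _ _ a) = algebraMap _ _ (e₁ a) := fun a =>
    IsFractionRing.ringEquivOfRingEquiv_algebraMap e₁ a
  have hint : ∀ x, IsIntegral (CAlg2.red A) x ↔ IsIntegral (CAlg2.red A') (φ x) := by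
    intro x
    constructor
    · rintro ⟨f, hf, hfx⟩
      refine ⟨f.map e₁.toRingHom, hf.map _, ?_⟩
      rw [Polynomial.eval₂_map,
        show (algebraMap (CAlg2.red A') _).comp e₁.toRingHom = φ.toRingHom.comp (algebraMap (CAlg2.red A) _) from
          RingHom.ext fun a => (hφ a).symm]
      exact (Polynomial.hom_eval₂ _ _ _ _).symm.trans (by rw [hfx]; exact map_zero φ)
    · rintro ⟨f, hf, hfy⟩
      refine ⟨f.map e₁.symm.toRingHom, hf.map _, φ.injective ?_⟩
      rw [Polynomial.eval₂_map, map_zero]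
      refine (Polynomial.hom_eval₂ _ _ φ.toRingHom _).trans ?_
      rw [show φ.toRingHom.comp ((algebraMap (CAlg2.red A) _).comp e₁.symm.toRingHom) = algebraMap (CAlg2.red A') _ from
        RingHom.ext fun b => (hφ _).trans (congrArg _ (e₁.apply_symm_apply b))]
      exact hfy
  let N : CAlg2.normRed A ≃+* CAlg2.normRed A' :=
    { toFun := fun x => ⟨φ x.1, (hint _).1 x.2⟩
      invFun := fun y => ⟨φ.symm y.1, (hint _).2 (by rw [φ.apply_symm_apply]; exact y.2)⟩
      left_inv := fun x => Subtype.ext (φ.symm_apply_apply x.1)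
      right_inv := fun y => Subtype.ext (φ.apply_symm_apply y.1)
      map_mul' := fun x y => Subtype.ext (map_mul φ x.1 y.1)
      map_add' := fun x y => Subtype.ext (map_add φ x.1 y.1) }
  rw [Brnch.numBranches, Brnch.numBranches, if_pos (minimalPrimes.finite_of_isNoetherianRing A),
    if_pos (minimalPrimes.finite_of_isNoetherianRing A')]
  exact ENat.card_congr
    { toFun := fun M => ⟨M.asIdeal.comap N.symm.toRingHom, by
        haveI := M.isMaximal; exact Ideal.comap_isMaximal_of_surjective _ N.symm.surjective⟩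
      invFun := fun M => ⟨M.asIdeal.comap N.toRingHom, by
        haveI := M.isMaximal; exact Ideal.comap_isMaximal_of_surjective _ N.surjective⟩
      left_inv := fun M => MaximalSpectrum.ext (Ideal.ext fun z => by
        show N.symm.toRingHom (N.toRingHom z) ∈ M.asIdeal ↔ _
        simp)
      right_inv := fun M => MaximalSpectrum.ext (Ideal.ext fun z => by
        show N.toRingHom (N.symm.toRingHom z) ∈ M.asIdeal ↔ _
        simp) }

end branches

namespace Data

variable {k : Type u} [Field k] {B : Type u} [CommRing B] [Algebra k B] {m : Ideal B} (D : Data k B m)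

/-- The families of pieces lie over the point. -/
lemma IsPiece.isPunct {A : Type u} [CommRing A] [Algebra k A] {v : Fin D.s → ℕ} {S : Finset (Win D.c)}
    {a : CVar S → A} (h : D.IsPiece v S a) : IsPunct m (h.fam D) := by
  rw [IsPunct, Ideal.map_le_iff_le_comap]
  intro b hb
  refine ⟨∑ j, (v j + D.c j), (IsPiece.mem_fam D h).2 (D.ψ_of_dvd a fun j => ?_)⟩
  rw [map_pow, Pi.pow_apply]
  have h1 : PowerSeries.X ∣ D.φA A (Algebra.TensorProduct.includeRight b) j := by
    rw [Algebra.TensorProduct.includeRight_apply, φA_tmul, one_smul, mapS_apply, PowerSeries.X_dvd_iff,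
      ← PowerSeries.coeff_zero_eq_constantCoeff_apply, PowerSeries.coeff_map,
      PowerSeries.coeff_zero_eq_constantCoeff_apply, D.const b j hb, map_zero]
  exact (pow_dvd_pow _ (Finset.single_le_sum (f := fun j => v j + D.c j) (fun _ _ => Nat.zero_le _)
    (Finset.mem_univ j))).trans (pow_dvd_pow_of_dvd h1 _)

variable [Algebra.FiniteType k B]

/-- The class of a shape. -/
noncomputable def clP (sh : D.Shape) : K0Var.K (Spec (CommRingCat.of k)) := K0Var.cl (str k (PRing sh))

variable {X : Scheme.{u}} (f : X ⟶ Spec (CommRingCat.of k)) [IsSeparated f]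
  (j : Spec (CommRingCat.of B) ⟶ X) [IsOpenImmersion j]
  (hw : j ≫ f = fB (R := k) (B := B) (𝟙 (Spec (CommRingCat.of k))) ≫ 𝟙 (Spec (CommRingCat.of k)))

include hw in
/-- Class and dimension of a punctual Hilbert scheme through the pieces. -/
theorem cl_and_dim (hm : m.IsMaximal) {d : ℕ} [Fintype (D.Piece d)] {H : Over (Spec (CommRingCat.of k))}
    [LocallyOfFiniteType H.hom] [QuasiCompact H.hom]
    (Z : HilbD.Obj f d H) (hZ : HilbD.IsUniversal f d H Z) {HP : Scheme.{u}} (ι : HP ⟶ H.left) [IsClosedImmersion ι]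
    (hι : Set.range ι = {h | ∀ z : Z.1.subscheme, (Z.1.subschemeι ≫ pullback.snd f H.hom) z = h →
      (Z.1.subschemeι ≫ pullback.fst f H.hom) z = j ⟨m, hm.isPrime⟩}) :
    K0Var.cl (ι ≫ H.hom) = ∑ p : D.Piece d, D.clP p.1.2 ∧
      topologicalKrullDim HP = ⨆ p : D.Piece d, topologicalKrullDim (Spec (CommRingCat.of (PRing p.1.2))) := by
  have hfg : m.FG := by
    haveI : IsNoetherianRing B := Algebra.FiniteType.isNoetherianRing k B
    exact IsNoetherian.noetherian m
  obtain ⟨g, hg, hlft, hqc, hb⟩ := exists_ptBij f j hw Z hZ (m := ⟨m, hm.isPrime⟩) hm ι hι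
    (α := D.Piece d) (fun p => PRing p.1.2) (fun p => fam' p) isRank_fam'
    (fun p K _ _ χ => by rw [map_fam']; exact IsPiece.isPunct D _)
    (fun K _ _ I _ hrank hpun => existsUnique_piece hfg I hrank hpun)
  refine ⟨?_, dim_eq_iSup_of_ptBij (ι ≫ H.hom) g hb⟩
  rw [H27K0Var.cl_eq_sum_of_ptBij (ι ≫ H.hom) g hb]
  refine Finset.sum_congr rfl fun p _ => ?_
  simp only [hg p]
  rfl

/-- The series of sums over the pieces is rational. -/
theorem evPoly_sum_pieces [∀ d, Fintype (D.Piece d)] :
    EvPoly D.s (PowerSeries.mk fun d => ∑ p : D.Piece d, D.clP p.1.2) := by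
  classical
  let R := K0Var.K (Spec (CommRingCat.of k))
  let G : D.Shape → PowerSeries R := fun sh => PowerSeries.mk fun d =>
    if D.q ≤ d + sh.2.1.card then (cnt (ord sh) D.c (d + sh.2.1.card - D.q) : R) else 0
  let r : D.Shape → R := fun sh => if Nontrivial (PRing sh) then D.clP sh else 0
  have hF : (PowerSeries.mk fun d => ∑ p : D.Piece d, D.clP p.1.2) = ∑ sh, PowerSeries.C (r sh) * G sh := by
    ext d
    rw [PowerSeries.coeff_mk, map_sum, ← Finset.sum_fiberwise Finset.univ (fun p : D.Piece d => p.1.2)]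
    refine Finset.sum_congr rfl fun sh _ => ?_
    rw [PowerSeries.coeff_C_mul, PowerSeries.coeff_mk]
    rw [Finset.sum_congr rfl fun (p : D.Piece d) hp => congrArg D.clP (Finset.mem_filter.1 hp).2,
      Finset.sum_const, nsmul_eq_mul]
    by_cases hn : Nontrivial (PRing sh)
    · by_cases hq : D.q ≤ d + sh.2.1.card
      · rw [show r sh = D.clP sh from if_pos hn, if_pos hq, mul_comm]
        congr 2
        rw [cnt, ← Nat.card_eq_finsetCard]
        exact Nat.card_congr
          { toFun := fun p => ⟨p.1.1.1, by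
              have := (Finset.mem_filter.1 p.2).2
              refine ⟨fun j => (p.1.2.1 j).trans (congrArg (fun s' => ord s' j) this), ?_⟩
              have h2 := p.1.2.2.1
              rw [this] at h2
              omega⟩
            invFun := fun v => ⟨⟨(v.1, sh), v.2.1, (by
              have := v.2.2
              show (∑ j, v.1 j) + D.q = d + sh.2.1.card
              omega), hn⟩, Finset.mem_filter.2 ⟨Finset.mem_univ _, rfl⟩⟩
            left_inv := fun p => Subtype.ext (Subtype.ext (Prod.ext rfl (Finset.mem_filter.1 p.2).2.symm))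
            right_inv := fun v => rfl }
      · rw [if_neg hq, mul_zero, Finset.card_eq_zero.2, Nat.cast_zero, zero_mul]
        refine Finset.filter_eq_empty_iff.2 fun p _ hp => hq ?_
        have h2 := p.2.2.1
        rw [hp] at h2
        omega
    · rw [show r sh = 0 from if_neg hn, zero_mul, Finset.card_eq_zero.2, Nat.cast_zero, zero_mul]
      exact Finset.filter_eq_empty_iff.2 fun p _ hp => hn (hp ▸ p.2.2.2)
  rw [hF]
  refine evPoly_sum _ _ fun sh _ => EvPoly.C_mul ?_ _
  refine (evPoly_cnt (ord sh) D.c).shift D.q sh.2.1.card fun d => ?_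
  rw [PowerSeries.coeff_mk, PowerSeries.coeff_mk]

omit [Algebra.FiniteType k B] in
/-- In large degree the same shapes occur. -/
theorem exists_iSup_pieces_const {β : Type*} [CompleteLattice β] (F : D.Shape → β) :
    ∃ d₀, ∀ d, d₀ ≤ d → (⨆ p : D.Piece d, F p.1.2) = ⨆ p : D.Piece d₀, F p.1.2 := by
  classical
  refine ⟨(∑ j, D.c j) + D.q + 1, fun d hd => ?_⟩
  have key : ∀ d d', (∑ j, D.c j) + D.q + 1 ≤ d → (∑ j, D.c j) + D.q + 1 ≤ d' →
      (⨆ p : D.Piece d, F p.1.2) ≤ ⨆ p : D.Piece d', F p.1.2 := by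
    refine fun d d' hd hd' => iSup_le fun p => ?_
    obtain ⟨⟨v, sh⟩, h1, h2, h3⟩ := p
    have hle : (∑ j, ord sh j) ≤ ∑ j, D.c j := Finset.sum_le_sum fun j _ => Nat.lt_succ_iff.1 (sh.1 j).2
    change (∀ j, min (v j) (D.c j) = ord sh j) at h1
    change (∑ j, v j) + D.q = d + sh.2.1.card at h2
    have hw := (exists_tuple_iff (ord sh) D.c (fun j => Nat.lt_succ_iff.1 (sh.1 j).2)
      (e := ∑ j, v j) (by omega)).1 ⟨v, h1, rfl⟩
    obtain ⟨v', hv', hv''⟩ := (exists_tuple_iff (ord sh) D.c (fun j => Nat.lt_succ_iff.1 (sh.1 j).2)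
      (e := d' + sh.2.1.card - D.q) (by omega)).2 hw
    exact le_iSup (fun p : D.Piece d' => F p.1.2) ⟨(v', sh), hv', (by
      show (∑ j, v' j) + D.q = d' + sh.2.1.card
      omega), h3⟩
  exact le_antisymm (key _ _ hd le_rfl) (key _ _ le_rfl hd)

end Data

open scoped Classical in
/-- A chart with branch data around a closed point. -/
theorem exists_chart {k : Type u} [Field k] [IsAlgClosed k] {X : Scheme.{u}} (f : X ⟶ Spec (CommRingCat.of k))
    [LocallyOfFiniteType f] [IsReduced X] {x₀ : X} (hx₀ : IsClosed ({x₀} : Set X))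
    (hdim : ringKrullDim (X.presheaf.stalk x₀) = 1) :
    ∃ (B : Type u) (_ : CommRing B) (_ : Algebra k B) (_ : Algebra.FiniteType k B)
      (j : Spec (CommRingCat.of B) ⟶ X) (_ : IsOpenImmersion j)
      (_ : j ≫ f = fB (R := k) (B := B) (𝟙 (Spec (CommRingCat.of k))) ≫ 𝟙 (Spec (CommRingCat.of k)))
      (m : Ideal B) (hm : m.IsMaximal) (D : Data k B m),
      j ⟨m, hm.isPrime⟩ = x₀ ∧ (D.s : ℕ∞) = Brnch.numBranchesAt X x₀ := by
  obtain ⟨U, hU, hxU, -⟩ := exists_isAffineOpen_mem_and_subset (show x₀ ∈ (⊤ : X.Opens) from trivial)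
  let φ := Spec.preimage (hU.fromSpec ≫ f)
  letI := φ.hom.toAlgebra
  have e : hU.fromSpec ≫ f = fB (R := k) (B := Γ(X, U)) (𝟙 _) ≫ 𝟙 _ := by
    show _ = (Spec.map φ ≫ 𝟙 _) ≫ 𝟙 _
    rw [Category.comp_id, Category.comp_id, Spec.map_preimage]
  haveI hft : Algebra.FiniteType k Γ(X, U) := by
    rw [← RingHom.finiteType_algebraMap]
    show φ.hom.FiniteType
    rw [← HasRingHomProperty.Spec_iff (P := @LocallyOfFiniteType), Spec.map_preimage]
    infer_instance
  let p := hU.primeIdealOf ⟨x₀, hxU⟩
  have hp : hU.fromSpec p = x₀ := hU.fromSpec_primeIdealOf ⟨x₀, hxU⟩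
  haveI hpm : p.asIdeal.IsMaximal := by
    refine (PrimeSpectrum.isClosed_singleton_iff_isMaximal p).1 ?_
    have h1 : ({p} : Set _) = hU.fromSpec ⁻¹' {x₀} := by
      ext q
      simp only [Set.mem_singleton_iff, Set.mem_preimage]
      exact ⟨fun h => h ▸ hp, fun h => hU.fromSpec.isOpenEmbedding.injective (h.trans hp.symm)⟩
    rw [h1]
    exact hx₀.preimage hU.fromSpec.continuous
  letI := TopCat.Presheaf.algebra_section_stalk X.presheaf (⟨x₀, hxU⟩ : U)
  haveI := hU.isLocalization_stalk ⟨x₀, hxU⟩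
  let eA : Localization.AtPrime p.asIdeal ≃+* X.presheaf.stalk x₀ :=
    (IsLocalization.algEquiv p.asIdeal.primeCompl (Localization.AtPrime p.asIdeal) (X.presheaf.stalk x₀)).toRingEquiv
  haveI : IsNoetherianRing Γ(X, U) := Algebra.FiniteType.isNoetherianRing k _
  haveI : IsNoetherianRing (Localization.AtPrime p.asIdeal) :=
    IsLocalization.isNoetherianRing p.asIdeal.primeCompl _ inferInstance
  haveI : IsNoetherianRing (X.presheaf.stalk x₀) := isNoetherianRing_of_ringEquiv _ eA
  obtain ⟨D, hD⟩ := exists_data (k := k) p.asIdeal ((ringKrullDim_eq_of_ringEquiv eA).trans hdim)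
  exact ⟨Γ(X, U), inferInstance, φ.hom.toAlgebra, hft, hU.fromSpec, inferInstance, e, p.asIdeal, hpm, D, hp,
    hD.trans (numBranches_congr eA)⟩

end Groth.Agent.H27CurveSing
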