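import Groth.Agent.H27PunctStrat.Basic
import Groth.Agent.H27HilbOps.Split
import Groth.Agent.H27Fogarty.Family
import Groth.Agent.H8Props.FieldDimScheme
import Mathlib

/-! # Punctual Hilbert schemes inside an affine chart -/

set_option autoImplicit false
set_option linter.style.haveILetI false
set_option backward.isDefEq.respectTransparency false
set_option backward.isDefEq.respectTransparency.types false

universe u

open CategoryTheory CategoryTheory.Limits AlgebraicGeometry TensorProduct CommRingCat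

namespace Groth.Agent.H27CurveSing

open H27HilbOps H27HilbAff H27PunctStrat

variable {k : Type u} [Field k] {B : Type u} [CommRing B] [Algebra k B]

local notation "σ₀" => 𝟙 (Spec (CommRingCat.of k))

/-- A family of constant rank. -/
def IsRank {A : Type u} [CommRing A] [Algebra k A] (Q : Ideal (A ⊗[k] B)) (d : ℕ) : Prop :=
  Module.Finite A ((A ⊗[k] B) ⧸ Q) ∧ Module.Flat A ((A ⊗[k] B) ⧸ Q) ∧
    ∀ p, Module.rankAtStalk (R := A) ((A ⊗[k] B) ⧸ Q) p = d

lemma IsRank.deg [Algebra.FiniteType k B] {A : Type u} [CommRing A] [Algebra k A] [IsNoetherianRing A]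
    {Q : Ideal (A ⊗[k] B)} {d : ℕ} (h : IsRank Q d) :
    Mor2.IsFinLocFreeOfDeg d ((famOf (R := k) σ₀ Q).subschemeι ≫ PicF.XTproj (fB σ₀) (TA σ₀ A)) := by
  obtain ⟨h1, h2, h3⟩ := h
  exact (famOf_proj_iff σ₀ d Q).mpr ⟨h1, h2, Algebra.FinitePresentation.of_finiteType.mp inferInstance, h3⟩

/-- Specialisations have the same colength. -/
theorem IsRank.finrank_map [Algebra.FiniteType k B] {A : Type u} [CommRing A] [Algebra k A] [IsNoetherianRing A]
    {Q : Ideal (A ⊗[k] B)} {d : ℕ} (h : IsRank Q d) {K : Type u} [Field K] [Algebra k K] (χ : A →ₐ[k] K) :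
    Module.Finite K ((K ⊗[k] B) ⧸ Q.map (bc χ)) ∧ Module.finrank K ((K ⊗[k] B) ⧸ Q.map (bc χ)) = d := by
  have hd := isFinLocFreeOfDeg_pull (fB σ₀) (TAmap σ₀ χ) _ h.deg
  rw [pull_famOf] at hd
  exact H27Fogarty.of_deg_famOf _ hd

lemma range_ker_subschemeι {Y Z : Scheme.{u}} (e : Y ⟶ Z) [IsClosedImmersion e] :
    Set.range e.ker.subschemeι = Set.range e := by
  rw [Scheme.IdealSheafData.range_subschemeι, Scheme.Hom.support_ker]
  exact e.isClosedEmbedding.isClosed_range.closure_eq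

variable {X : Scheme.{u}} (f : X ⟶ Spec (CommRingCat.of k)) [IsSeparated f]
  (j : Spec (CommRingCat.of B) ⟶ X) [IsOpenImmersion j]
  (hw : j ≫ f = fB (R := k) (B := B) (𝟙 (Spec (CommRingCat.of k))) ≫ 𝟙 (Spec (CommRingCat.of k)))

include hw in
/-- Support at a point of the chart. -/
theorem sup_pushO_iff {m : PrimeSpectrum B} (hm : m.asIdeal.IsMaximal) {A : Type u} [CommRing A] [Algebra k A] {d : ℕ}
    (I : Ideal (A ⊗[k] B))
    (hI : Mor2.IsFinLocFreeOfDeg d ((famOf (R := k) σ₀ I).subschemeι ≫ PicF.XTproj (fB σ₀) (TA σ₀ A))) :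
    Union.Sup f (pushO f (fB σ₀) j σ₀ hw (TA σ₀ A) (famOf σ₀ I)) {j m} ↔ IsPunct m.asIdeal I := by
  rw [isPunct_iff hm]
  let Z : HilbD.Obj (fB (R := k) (B := B) σ₀) d (TA σ₀ A) := ⟨famOf σ₀ I, hI⟩
  haveI := isClosedImmersion_push f (fB σ₀) j σ₀ hw Z
  let c := Spec.map (ofHom (Ideal.Quotient.mk I)) ≫ incl B σ₀ A
  have hr : Set.range (pushO f (fB σ₀) j σ₀ hw (TA σ₀ A) Z.1).subschemeι =
      XOincl f (fB σ₀) j σ₀ hw (TA σ₀ A) '' Set.range c := by
    rw [pushO, range_ker_subschemeι]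
    show Set.range (XOincl f (fB σ₀) j σ₀ hw (TA σ₀ A) ∘ Z.1.subschemeι) = _
    rw [Set.range_comp, show Set.range Z.1.subschemeι = Set.range c from range_ker_subschemeι c]
  have hfst : ∀ q, pullback.fst f (overS σ₀ (TA σ₀ A)).hom (XOincl f (fB σ₀) j σ₀ hw (TA σ₀ A) (c q)) =
      j (PrimeSpectrum.comap (((Ideal.Quotient.mkₐ k I).comp
        (Algebra.TensorProduct.includeRight : B →ₐ[k] A ⊗[k] B)).toRingHom) q) := fun q => by
    rw [← Scheme.Hom.comp_apply, XOincl_fst, Scheme.Hom.comp_apply, ← Scheme.Hom.comp_apply c,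
      Category.assoc, incl_fst, ← Spec.map_comp]
    rfl
  constructor
  · intro h q
    obtain ⟨z, hz⟩ : XOincl f (fB σ₀) j σ₀ hw (TA σ₀ A) (c q) ∈
        Set.range (pushO f (fB σ₀) j σ₀ hw (TA σ₀ A) Z.1).subschemeι := hr ▸ ⟨_, ⟨q, rfl⟩, rfl⟩
    have h1 := h z
    rw [Scheme.Hom.comp_apply, hz, hfst] at h1
    exact j.isOpenEmbedding.injective h1
  · intro h z
    obtain ⟨_, ⟨q, rfl⟩, hq⟩ : (pushO f (fB σ₀) j σ₀ hw (TA σ₀ A) Z.1).subschemeι z ∈
        XOincl f (fB σ₀) j σ₀ hw (TA σ₀ A) '' Set.range c := hr ▸ ⟨z, rfl⟩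
    rw [Scheme.Hom.comp_apply, ← hq, hfst, h q]
    exact rfl

include hw in
/-- Families classifying field valued points map bijectively to the punctual Hilbert scheme. -/
theorem exists_ptBij [Algebra.FiniteType k B] {d : ℕ} {H : Over (Spec (CommRingCat.of k))}
    [LocallyOfFiniteType H.hom] [QuasiCompact H.hom]
    (Z : HilbD.Obj f d H) (hZ : HilbD.IsUniversal f d H Z) {m : PrimeSpectrum B} (hm : m.asIdeal.IsMaximal)
    {HP : Scheme.{u}} (ι : HP ⟶ H.left) [IsClosedImmersion ι]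
    (hι : Set.range ι = {h | ∀ z : Z.1.subscheme, (Z.1.subschemeι ≫ pullback.snd f H.hom) z = h →
      (Z.1.subschemeι ≫ pullback.fst f H.hom) z = j m})
    {α : Type*} (P : α → Type u) [∀ i, CommRing (P i)] [∀ i, Algebra k (P i)]
    [∀ i, Algebra.FiniteType k (P i)] [∀ i, _root_.IsReduced (P i)] (Q : ∀ i, Ideal (P i ⊗[k] B))
    (hQ : ∀ i, IsRank (Q i) d)
    (hpunct : ∀ i (K : Type u) [Field K] [Algebra k K] (χ : P i →ₐ[k] K), IsPunct m.asIdeal ((Q i).map (bc χ)))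
    (hbij : ∀ (K : Type u) [Field K] [Algebra k K] (I : Ideal (K ⊗[k] B)), Module.Finite K ((K ⊗[k] B) ⧸ I) →
      Module.finrank K ((K ⊗[k] B) ⧸ I) = d → IsPunct m.asIdeal I →
        ∃! p : Σ i, P i →ₐ[k] K, (Q p.1).map (bc p.2) = I) :
    ∃ g : ∀ i, Spec (CommRingCat.of (P i)) ⟶ HP,
      (∀ i, g i ≫ ι ≫ H.hom = Spec.map (ofHom (algebraMap k (P i)))) ∧
      (∀ i, LocallyOfFiniteType (g i)) ∧ (∀ i, QuasiCompact (g i)) ∧ H27K0Var.PtBij g := by
  haveI : ∀ i, IsNoetherianRing (P i) := fun i => Algebra.FiniteType.isNoetherianRing k (P i)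
  let push : ∀ {A : Type u} [CommRing A] [Algebra k A], Ideal (A ⊗[k] B) →
      (PicF.XT f (H27Fogarty.TP k A)).IdealSheafData := fun {A} _ _ I =>
    pushO f (fB σ₀) j σ₀ hw (TA σ₀ A) (famOf σ₀ I)
  choose g hg hguniq using fun i => hZ (H27Fogarty.TP k (P i))
    (pushOObj f (fB σ₀) j σ₀ hw ⟨famOf σ₀ (Q i), (hQ i).deg⟩)
  have hpull : ∀ i {K : Type u} [Field K] [Algebra k K] (χ : P i →ₐ[k] K),
      HilbD.pull f (H27Fogarty.TPmap χ ≫ g i) Z.1 = push ((Q i).map (bc χ)) := fun i K _ _ χ => by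
    rw [H27HilbOps.pull_comp, hg i]
    show HilbD.pull f (overSMap σ₀ (TAmap σ₀ χ)) (pushO f (fB σ₀) j σ₀ hw _ (famOf σ₀ (Q i))) = _
    rw [pull_pushO f (fB σ₀) j σ₀ hw (TAmap σ₀ χ) (d := d) ⟨famOf σ₀ (Q i), (hQ i).deg⟩, pull_famOf]
  have hι' : Set.range ι = Split.locus f Z.1 {j m} := hι
  have hrange : ∀ i, Set.range (g i).left ⊆ Set.range ι := by
    rintro i _ ⟨p, rfl⟩
    rw [hι']
    let K := p.asIdeal.ResidueField
    let χ : P i →ₐ[k] K := IsScalarTower.toAlgHom k (P i) K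
    have hp : (H27Fogarty.TPmap χ).left (IsLocalRing.closedPoint K) = p := by
      apply PrimeSpectrum.ext
      show (IsLocalRing.maximalIdeal K).comap (algebraMap (P i) K) = p.asIdeal
      rw [IsLocalRing.maximalIdeal_eq_bot, ← RingHom.ker_eq_comap_bot, Ideal.ker_algebraMap_residueField]
    obtain ⟨f1, f2⟩ := (hQ i).finrank_map χ
    have hsup := (sup_pushO_iff f j hw hm ((Q i).map (bc χ)) (d := d)
      (H27Fogarty.deg_famOf _ ⟨f1, inferInstance, f2⟩)).2 (hpunct i K χ)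
    have := (Split.sup_pull_iff f Z.1 (H27Fogarty.TPmap χ ≫ g i) {j m}).1 (by rw [hpull]; exact hsup)
      (IsLocalRing.closedPoint K)
    rw [Over.comp_left, Scheme.Hom.comp_apply, hp] at this
    exact this
  haveI hred : ∀ i, IsReduced (H27Fogarty.TP k (P i)).left :=
    fun i => inferInstanceAs (IsReduced (Spec (CommRingCat.of (P i))))
  choose g' hg' using fun i => H17.exists_lift_immersion_of_range_subset (g i).left ι (hrange i)
  have hstr : ∀ i, g' i ≫ ι ≫ H.hom = Spec.map (ofHom (algebraMap k (P i))) := fun i => by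
    rw [reassoc_of% hg' i, Over.w (g i)]
    show (Spec.map (ofHom (algebraMap k (P i))) ≫ σ₀) ≫ σ₀ = _
    rw [Category.comp_id, Category.comp_id]
  haveI : ∀ i, LocallyOfFiniteType (Spec.map (ofHom (algebraMap k (P i)))) := fun i =>
    (HasRingHomProperty.Spec_iff (P := @LocallyOfFiniteType)).2 (RingHom.finiteType_algebraMap.2 inferInstance)
  have hlft : ∀ i, LocallyOfFiniteType (g' i) := fun i => by
    haveI : LocallyOfFiniteType (g' i ≫ ι ≫ H.hom) := by rw [hstr i]; infer_instance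
    exact locallyOfFiniteType_of_comp (g' i) (ι ≫ H.hom)
  have hqc : ∀ i, QuasiCompact (g' i) := fun i => by
    haveI : IsLocallyNoetherian HP := LocallyOfFiniteType.isLocallyNoetherian (ι ≫ H.hom)
    haveI : IsNoetherianRing (CommRingCat.of (P i)) := Algebra.FiniteType.isNoetherianRing k (P i)
    haveI : TopologicalSpace.NoetherianSpace ↥(H27Fogarty.TP k (P i)).left :=
      inferInstanceAs (TopologicalSpace.NoetherianSpace (PrimeSpectrum (P i)))
    exact quasiCompact_of_noetherianSpace_source _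
  refine ⟨g', hstr, hlft, hqc, ?_⟩
  intro K _ y
  obtain ⟨alg, a₀, ha₀⟩ := exists_algebra_of_hom (σ := σ₀) (T := H) (y ≫ ι)
  letI := alg
  let a : H27Fogarty.TP k K ⟶ H := Over.homMk a₀.left ((Over.w a₀).trans (Category.comp_id _).symm)
  have ha : a.left = y ≫ ι := ha₀
  have hsup : Union.Sup f (HilbD.pull f a Z.1) {j m} := (Split.sup_pull_iff f Z.1 a {j m}).2 fun t => by
    rw [← hι', ha]
    exact ⟨y t, rfl⟩
  obtain ⟨I, hI, hIeq⟩ := H27Fogarty.exists_eq_fam f j hw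
    (⟨HilbD.pull f a Z.1, isFinLocFreeOfDeg_pull _ a Z.1 Z.2⟩ : HilbD.Obj f d (H27Fogarty.TP k K))
    (fun z => ⟨m, (hsup z).symm⟩)
  have hIeq' : push I = HilbD.pull f a Z.1 := hIeq
  have hpun : IsPunct m.asIdeal I :=
    (sup_pushO_iff f j hw hm I (d := d) (H27Fogarty.deg_famOf _ hI)).1 (by
      show Union.Sup f (push I) _
      rw [hIeq']; exact hsup)
  obtain ⟨⟨i, χ⟩, hχ, huniq⟩ := hbij K I hI.1 hI.2.2 hpun
  have hχa : H27Fogarty.TPmap χ ≫ g i = a :=
    (hZ _ ⟨HilbD.pull f a Z.1, isFinLocFreeOfDeg_pull _ a Z.1 Z.2⟩).unique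
      (by show HilbD.pull f _ Z.1 = _; rw [hpull, hχ, hIeq']) rfl
  refine ⟨⟨i, Spec.map (ofHom χ.toRingHom)⟩, ?_, ?_⟩
  · show Spec.map (ofHom χ.toRingHom) ≫ g' i = y
    rw [← cancel_mono ι, Category.assoc, hg' i, ← ha, ← hχa]
    rfl
  · rintro ⟨i', b⟩ hbj
    have hb' : b ≫ g' i' = y := hbj
    have hw' : b ≫ Spec.map (ofHom (algebraMap k (P i'))) ≫ σ₀ = Spec.map (ofHom (algebraMap k K)) ≫ σ₀ := by
      rw [Category.comp_id, ← hstr i', reassoc_of% hb', ← Category.assoc, ← ha₀]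
      exact Over.w a₀
    obtain ⟨χ', hχ'⟩ := exists_TAmap_eq σ₀ (Over.homMk b hw' : TA σ₀ K ⟶ TA σ₀ (P i'))
    have hb'' : b = Spec.map (ofHom χ'.toRingHom) := by
      rw [← TAmap_left σ₀ χ', hχ']; rfl
    have ha' : H27Fogarty.TPmap χ' ≫ g i' = a := Over.OverMorphism.ext (by
      show Spec.map (ofHom χ'.toRingHom) ≫ (g i').left = _
      rw [← hb'', ← hg' i', reassoc_of% hb', ha])
    have hinj : ∀ {I₁ I₂ : Ideal (K ⊗[k] B)},
        Mor2.IsFinLocFreeOfDeg d ((famOf (R := k) σ₀ I₁).subschemeι ≫ PicF.XTproj (fB σ₀) (TA σ₀ K)) →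
        Mor2.IsFinLocFreeOfDeg d ((famOf (R := k) σ₀ I₂).subschemeι ≫ PicF.XTproj (fB σ₀) (TA σ₀ K)) →
        push I₁ = push I₂ → I₁ = I₂ := fun {I₁ I₂} h₁ h₂ e => famOf_injective σ₀
      ((comap_pushO f (fB σ₀) j σ₀ hw ⟨_, h₁⟩).symm.trans ((congrArg (fun J => Scheme.IdealSheafData.comap J
        (XOincl f (fB σ₀) j σ₀ hw (TA σ₀ K))) e).trans (comap_pushO f (fB σ₀) j σ₀ hw ⟨_, h₂⟩)))
    obtain ⟨f1, f2⟩ := (hQ i').finrank_map χ'
    have := huniq ⟨i', χ'⟩ (hinj (H27Fogarty.deg_famOf _ ⟨f1, inferInstance, f2⟩) (H27Fogarty.deg_famOf _ hI) (by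
      rw [← hpull, ha', hIeq']))
    obtain rfl : i' = i := congrArg Sigma.fst this
    rw [Sigma.mk.injEq, heq_eq_eq] at this
    rw [hb'', this.2]

/-- A family bijective on field valued points preserves the dimension. -/
theorem dim_eq_iSup_of_ptBij {Y : Scheme.{u}} (h : Y ⟶ Spec (CommRingCat.of k)) [LocallyOfFiniteType h]
    {α : Type*} {A : α → Scheme.{u}} (g : ∀ i, A i ⟶ Y) [∀ i, LocallyOfFiniteType (g i)]
    (hg : H27K0Var.PtBij g) : topologicalKrullDim Y = ⨆ i, topologicalKrullDim (A i) := by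
  open H8Props.FieldDim in
  have key : ∀ i (a : A i), cdim (g i a) = cdim a := fun i a => by
    haveI := hg.isIso_residueFieldMap i a
    let L := (A i).residueField a
    let e := (A i).fromSpecResidueField a
    letI : Algebra k L := (Spec.preimage (e ≫ g i ≫ h)).hom.toAlgebra
    have he : e ≫ g i ≫ h = Spec.map (ofHom (algebraMap k L)) := (Spec.map_preimage _).symm
    haveI : IsPreimmersion (e ≫ g i) := by
      rw [← Scheme.Hom.SpecMap_residueFieldMap_fromSpecResidueField]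
      infer_instance
    obtain ⟨s₁, hs₁, ht₁⟩ := exists_trdeg (g i ≫ h) (L := L) e he (IsLocalRing.closedPoint L)
    obtain ⟨s₂, hs₂, ht₂⟩ := exists_trdeg h (L := L) (e ≫ g i) ((Category.assoc _ _ _).trans he) (IsLocalRing.closedPoint L)
    obtain rfl : s₁ = s₂ := Nat.cast_injective (R := Cardinal) (ht₁.symm.trans ht₂)
    rw [Scheme.Hom.comp_apply] at hs₂
    erw [Scheme.fromSpecResidueField_apply] at hs₁ hs₂
    rw [hs₁, hs₂]
  rw [H8Props.FieldDim.dim_eq_iSup_cdim]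
  refine le_antisymm (iSup_le fun y => ?_) (iSup_le fun i => ?_)
  · obtain ⟨i, a, rfl⟩ := hg.exists_eq y
    rw [key i a]
    refine le_iSup_of_le i ?_
    rw [H8Props.FieldDim.dim_eq_iSup_cdim]
    exact le_iSup (fun a => H8Props.FieldDim.cdim a) a
  · rw [H8Props.FieldDim.dim_eq_iSup_cdim]
    refine iSup_le fun a => ?_
    rw [← key i a]
    exact le_iSup (fun y => H8Props.FieldDim.cdim y) (g i a)

end Groth.Agent.H27CurveSing
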