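import Groth.Agent.H27CurveSing.Classify
import Groth.Agent.H27CurveSing.Strat
import Mathlib

/-! # The universal pieces of the punctual Hilbert schemes of a curve -/

set_option autoImplicit false
set_option linter.style.haveILetI false

universe u

open TensorProduct

namespace Groth.Agent.H27CurveSing.Data

open H27HilbAff H27PunctStrat

variable {k : Type u} [Field k] {B : Type u} [CommRing B] [Algebra k B] {m : Ideal B} (D : Data k B m)

/-- Orders below the conductor, leading positions, and a unit entry for every branch. -/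
abbrev Shape : Type :=
  ((j : Fin D.s) → Fin (D.c j + 1)) × Σ S : Finset (Win D.c), Fin D.s → ↥S

variable {D} (sh₀ : D.Shape)

/-- The orders of a shape. -/
def ord (j : Fin D.s) : ℕ := (sh₀.1 j).1

/-- The polynomial ring of a shape. -/
abbrev Amb : Type u := MvPolynomial (ULift.{u} (CVar sh₀.2.1)) k

/-- The indeterminate basis. -/
noncomputable def aAmb : CVar sh₀.2.1 → Amb sh₀ := fun x => MvPolynomial.X ⟨x⟩

/-- The equations of a shape. -/
noncomputable def eqns : Set (Amb sh₀) :=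
  (Set.range fun p : ↥sh₀.2.1 × Fin D.δ =>
      extL (Amb sh₀) D.E (shW (Amb sh₀) D.c (ord sh₀) (row sh₀.2.1 (aAmb sh₀) p.1)) p.2) ∪
    (Set.range fun p : (Fin D.q × ↥sh₀.2.1) × {y // y ∉ sh₀.2.1} =>
      res sh₀.2.1 (aAmb sh₀) (mulW (Amb sh₀) D.c (fun x => algebraMap k (Amb sh₀) (D.gen p.1.1 x))
        (row sh₀.2.1 (aAmb sh₀) p.1.2)) p.2) ∪
    {z | ∃ (j : Fin D.s) (l : ↥sh₀.2.1), (l : Win D.c) < (sh₀.2.2 j : Win D.c) ∧
      z = row sh₀.2.1 (aAmb sh₀) l ⟨j, ⟨0, D.hc j⟩⟩}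

/-- The ideal of a shape. -/
noncomputable def eqnIdeal : Ideal (Amb sh₀) := (Ideal.span (eqns sh₀)).radical

/-- The product of the unit entries. -/
noncomputable def unitElt : Amb sh₀ ⧸ eqnIdeal sh₀ :=
  ∏ j, Ideal.Quotient.mk (eqnIdeal sh₀) (row sh₀.2.1 (aAmb sh₀) (sh₀.2.2 j) ⟨j, ⟨0, D.hc j⟩⟩)

/-- The ring of a shape. -/
abbrev PRing : Type u := Localization.Away (unitElt sh₀)

instance isReduced_PRing : IsReduced (PRing sh₀) := by
  haveI : IsReduced (Amb sh₀ ⧸ eqnIdeal sh₀) :=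
    (Ideal.isRadical_iff_quotient_reduced _).1 (Ideal.radical_isRadical _)
  infer_instance

instance finiteType_PRing : Algebra.FiniteType k (PRing sh₀) :=
  .trans (inferInstanceAs (Algebra.FiniteType k (Amb sh₀ ⧸ eqnIdeal sh₀)))
    (IsLocalization.finiteType_of_monoid_fg (Submonoid.powers (unitElt sh₀)) _)

/-- The universal map. -/
noncomputable def toPRing : Amb sh₀ →ₐ[k] PRing sh₀ :=
  (IsScalarTower.toAlgHom k (Amb sh₀ ⧸ eqnIdeal sh₀) (PRing sh₀)).comp (Ideal.Quotient.mkₐ k (eqnIdeal sh₀))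

/-- The universal basis. -/
noncomputable def aP : CVar sh₀.2.1 → PRing sh₀ := fun x => toPRing sh₀ (aAmb sh₀ x)

lemma toPRing_eq_zero {z : Amb sh₀} (hz : z ∈ eqns sh₀) : toPRing sh₀ z = 0 := by
  show algebraMap _ (PRing sh₀) (Ideal.Quotient.mk (eqnIdeal sh₀) z) = 0
  have : Ideal.Quotient.mk (eqnIdeal sh₀) z = 0 :=
    (Ideal.Quotient.eq_zero_iff_mem (I := eqnIdeal sh₀)).2 (Ideal.le_radical (Ideal.subset_span hz))
  rw [this, map_zero]

lemma ord_eq {v : Fin D.s → ℕ} (hv : ∀ j, min (v j) (D.c j) = ord sh₀ j) (A : Type u) [CommRing A] :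
    shW A D.c v = shW A D.c (ord sh₀) := by
  rw [shW_min D.c v, show (fun j => min (v j) (D.c j)) = ord sh₀ from funext hv]

/-- Values satisfying the equations form a piece. -/
lemma isPiece_of_eqns {A : Type u} [CommRing A] [Algebra k A] {v : Fin D.s → ℕ}
    (hv : ∀ j, min (v j) (D.c j) = ord sh₀ j) (χ : Amb sh₀ →ₐ[k] A) (h : ∀ z ∈ eqns sh₀, χ z = 0) :
    D.IsPiece v sh₀.2.1 fun x => χ (aAmb sh₀ x) := by
  have e : ∀ l, (fun x => χ (row sh₀.2.1 (aAmb sh₀) l x)) = row sh₀.2.1 (fun x => χ (aAmb sh₀ x)) l :=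
    fun l => funext fun x => row_map χ.toRingHom _ _ l x
  refine ⟨fun l => funext fun y => ?_, fun i l => funext fun y => ?_⟩
  · rw [ord_eq sh₀ hv, Pi.zero_apply, ← h _ (Or.inl (Or.inl ⟨(l, y), rfl⟩)), extL_map]
    refine congrFun (congrArg _ (funext fun x => ?_)) y
    rw [← e]
    exact (shW_map χ.toRingHom D.c (ord sh₀) _ x).symm
  · rw [Pi.zero_apply, ← h _ (Or.inl (Or.inr ⟨((i, l), y), rfl⟩))]
    refine Eq.trans (congrFun (congrArg _ (funext fun x => ?_)) y) (res_map χ.toRingHom sh₀.2.1 (aAmb sh₀) _ y).symm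
    rw [mulW_map, ← e]
    congr 2
    funext z
    exact (χ.commutes _).symm

lemma isPiece_aP {v : Fin D.s → ℕ} (hv : ∀ j, min (v j) (D.c j) = ord sh₀ j) :
    D.IsPiece v sh₀.2.1 (aP sh₀) :=
  isPiece_of_eqns sh₀ hv (toPRing sh₀) fun _ hz => toPRing_eq_zero sh₀ hz

lemma isUnit_row_aP (j : Fin D.s) :
    IsUnit (row sh₀.2.1 (aP sh₀) (sh₀.2.2 j) ⟨j, ⟨0, D.hc j⟩⟩) := by
  have h : IsUnit (algebraMap (Amb sh₀ ⧸ eqnIdeal sh₀) (PRing sh₀)
      (∏ j, Ideal.Quotient.mk (eqnIdeal sh₀) (row sh₀.2.1 (aAmb sh₀) (sh₀.2.2 j) ⟨j, ⟨0, D.hc j⟩⟩))) :=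
    IsLocalization.Away.algebraMap_isUnit (S := PRing sh₀) (unitElt sh₀)
  rw [map_prod, IsUnit.prod_iff] at h
  have e : toPRing sh₀ (row sh₀.2.1 (aAmb sh₀) (sh₀.2.2 j) ⟨j, ⟨0, D.hc j⟩⟩) =
      row sh₀.2.1 (aP sh₀) (sh₀.2.2 j) ⟨j, ⟨0, D.hc j⟩⟩ := row_map (toPRing sh₀).toRingHom _ _ _ _
  rw [← e]
  exact h j (Finset.mem_univ j)

lemma row_aP_of_lt (j : Fin D.s) (l : ↥sh₀.2.1) (hl : (l : Win D.c) < (sh₀.2.2 j : Win D.c)) :
    row sh₀.2.1 (aP sh₀) l ⟨j, ⟨0, D.hc j⟩⟩ = 0 := by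
  have e : toPRing sh₀ (row sh₀.2.1 (aAmb sh₀) l ⟨j, ⟨0, D.hc j⟩⟩) =
      row sh₀.2.1 (aP sh₀) l ⟨j, ⟨0, D.hc j⟩⟩ := row_map (toPRing sh₀).toRingHom _ _ _ _
  rw [← e]
  exact toPRing_eq_zero sh₀ (Or.inr ⟨j, l, hl, rfl⟩)

/-- A point of a shape. -/
theorem exists_point {K : Type u} [Field K] [Algebra k K] {v : Fin D.s → ℕ}
    (hv : ∀ j, min (v j) (D.c j) = ord sh₀ j) {a : CVar sh₀.2.1 → K} (h : D.IsPiece v sh₀.2.1 a)
    (hu : ∀ j, row sh₀.2.1 a (sh₀.2.2 j) ⟨j, ⟨0, D.hc j⟩⟩ ≠ 0)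
    (hlt : ∀ j (l : ↥sh₀.2.1), (l : Win D.c) < (sh₀.2.2 j : Win D.c) → row sh₀.2.1 a l ⟨j, ⟨0, D.hc j⟩⟩ = 0) :
    ∃ χ : PRing sh₀ →ₐ[k] K, ∀ x, χ (aP sh₀ x) = a x := by
  let ev : Amb sh₀ →ₐ[k] K := MvPolynomial.aeval fun x => a x.down
  have hev : ∀ x, ev (aAmb sh₀ x) = a x := fun x => by simp [ev, aAmb]
  have e : ∀ l, (fun x => ev (row sh₀.2.1 (aAmb sh₀) l x)) = row sh₀.2.1 a l := fun l => funext fun x =>
    (row_map ev.toRingHom _ _ l x).trans (congrArg (fun b => row sh₀.2.1 b l x) (funext hev))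
  have hz : ∀ z ∈ eqns sh₀, ev z = 0 := by
    rintro z ((⟨⟨l, y⟩, rfl⟩ | ⟨⟨⟨i, l⟩, y⟩, rfl⟩) | ⟨j, l, hl, rfl⟩)
    · rw [extL_map]
      refine Eq.trans (congrFun (congrArg _ (funext fun x => ?_)) y) (congrFun (h.shift l) y)
      rw [← ord_eq sh₀ hv, ← e l]
      exact shW_map ev.toRingHom D.c v _ x
    · refine (res_map ev.toRingHom _ _ _ y).trans (Eq.trans ?_ (congrFun (h.stable i l) y))
      rw [show (fun x => ev.toRingHom (aAmb sh₀ x)) = a from funext hev]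
      refine congrFun (congrArg _ (funext fun x => ?_)) y
      rw [mulW_map, ← e l]
      congr 2
      funext z
      exact ev.commutes _
    · exact (congrFun (e l) _).trans (hlt j l hl)
  have hker : ∀ z ∈ eqnIdeal sh₀, ev z = 0 := fun z hz' => by
    obtain ⟨n, hn⟩ := hz'
    have : Ideal.span (eqns sh₀) ≤ RingHom.ker ev := Ideal.span_le.2 fun z hz'' => hz z hz''
    have h2 := RingHom.mem_ker.1 (this hn)
    rw [map_pow] at h2
    exact eq_zero_of_pow_eq_zero h2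
  let ev' : Amb sh₀ ⧸ eqnIdeal sh₀ →ₐ[k] K := Ideal.Quotient.liftₐ (eqnIdeal sh₀) ev hker
  have hunit : IsUnit (ev' (unitElt sh₀)) := by
    rw [unitElt, map_prod, IsUnit.prod_iff]
    refine fun j _ => isUnit_iff_ne_zero.2 ?_
    show ev (row sh₀.2.1 (aAmb sh₀) (sh₀.2.2 j) ⟨j, ⟨0, D.hc j⟩⟩) ≠ 0
    exact fun h0 => hu j ((congrFun (e _) _).symm.trans h0)
  refine ⟨IsLocalization.liftAlgHom (M := Submonoid.powers (unitElt sh₀)) (f := ev') ?_, fun x => ?_⟩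
  · rintro ⟨_, n, rfl⟩
    rw [map_pow]
    exact hunit.pow n
  · show IsLocalization.lift _ (algebraMap (Amb sh₀ ⧸ eqnIdeal sh₀) (PRing sh₀) (Ideal.Quotient.mk (eqnIdeal sh₀) (aAmb sh₀ x))) = a x
    rw [IsLocalization.lift_eq]
    exact hev x

/-- A point is determined by the basis. -/
theorem point_ext {R : Type u} [CommRing R] [Algebra k R] {χ χ' : PRing sh₀ →ₐ[k] R}
    (h : ∀ x, χ (aP sh₀ x) = χ' (aP sh₀ x)) : χ = χ' :=
  IsLocalization.algHom_ext (Submonoid.powers (unitElt sh₀))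
    (Ideal.Quotient.algHom_ext (I := eqnIdeal sh₀) k (MvPolynomial.algHom_ext fun x => h x.down))

variable (D) (d : ℕ)

/-- The labels of the pieces in colength `d`. -/
abbrev Piece : Type :=
  {p : (Fin D.s → ℕ) × D.Shape // (∀ j, min (p.1 j) (D.c j) = ord p.2 j) ∧
    (∑ j, p.1 j) + D.q = d + p.2.2.1.card ∧ Nontrivial (PRing p.2)}

instance finite_piece : Finite (D.Piece d) := by
  have : Set.Finite {p : (Fin D.s → ℕ) × D.Shape | (∀ j, min (p.1 j) (D.c j) = ord p.2 j) ∧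
      (∑ j, p.1 j) + D.q = d + p.2.2.1.card ∧ Nontrivial (PRing p.2)} := by
    refine Set.Finite.subset ((Set.Finite.pi' fun _ => Set.finite_Iic (d + Fintype.card (Win D.c))).prod
      (Set.finite_univ (α := D.Shape))) fun p hp => ⟨fun j => ?_, trivial⟩
    have h1 := Finset.single_le_sum (f := p.1) (fun _ _ => Nat.zero_le _) (Finset.mem_univ j)
    have h2 : p.2.2.1.card ≤ Fintype.card (Win D.c) := Finset.card_le_univ _
    have h3 := hp.2.1
    simp only [Set.mem_Iic]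
    omega
  exact this.to_subtype

variable {D} {d}

/-- The family of a label. -/
noncomputable def fam' (p : D.Piece d) : Ideal (PRing p.1.2 ⊗[k] B) := (isPiece_aP p.1.2 p.2.1).fam D

variable [Algebra.FiniteType k B]

lemma isRank_fam' (p : D.Piece d) : IsRank (fam' p) d := by
  obtain ⟨h1, h2, h3⟩ := (isPiece_aP p.1.2 p.2.1).quotient D
  refine ⟨h1, h2, fun q => ?_⟩
  have h4 := h3 q
  have h5 := p.2.2.1
  have h6 : Module.rankAtStalk (R := PRing p.1.2) ((PRing p.1.2 ⊗[k] B) ⧸ fam' p) q + p.1.2.2.1.card =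
      (∑ j, p.1.1 j) + D.q := h4
  omega

theorem map_fam' (p : D.Piece d) {K : Type u} [Field K] [Algebra k K] (χ : PRing p.1.2 →ₐ[k] K) :
    (fam' p).map (bc χ) = ((isPiece_aP p.1.2 p.2.1).map D χ).fam D := by
  haveI : IsNoetherianRing (PRing p.1.2) := Algebra.FiniteType.isNoetherianRing k _
  obtain ⟨f1, f2⟩ := (isRank_fam' p).finrank_map χ
  obtain ⟨g1, -, g3⟩ := ((isPiece_aP p.1.2 p.2.1).map D χ).quotient D
  have hle := (isPiece_aP p.1.2 p.2.1).map_fam_le D χ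
  have g4 := g3 (IsLocalRing.closedPoint K)
  rw [Module.rankAtStalk_eq_finrank_of_free] at g4
  have g5 : Module.finrank K ((K ⊗[k] B) ⧸ ((isPiece_aP p.1.2 p.2.1).map D χ).fam D) = d := by
    have h5 := p.2.2.1
    change Module.finrank K ((K ⊗[k] B) ⧸ ((isPiece_aP p.1.2 p.2.1).map D χ).fam D) + _ = _ at g4
    omega
  refine le_antisymm hle fun z hz => ?_
  let π := (Ideal.Quotient.factorₐ K hle).toLinearMap
  have hinj : Function.Injective π := (LinearMap.injective_iff_surjective_of_finrank_eq_finrank (f := π)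
    (f2.trans g5.symm)).2 fun y => by
      obtain ⟨z, rfl⟩ := Ideal.Quotient.mk_surjective y
      exact ⟨Ideal.Quotient.mk _ z, rfl⟩
  refine Ideal.Quotient.eq_zero_iff_mem.1 (hinj ?_)
  exact (Ideal.Quotient.eq_zero_iff_mem.2 hz).trans (map_zero π).symm

/-- The labelled families classify the punctual ideals of colength `d`. -/
theorem existsUnique_piece (hfg : m.FG) {K : Type u} [Field K] [Algebra k K] (I : Ideal (K ⊗[k] B))
    (hrank : Module.finrank K ((K ⊗[k] B) ⧸ I) = d) (hpun : IsPunct m I) :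
    ∃! p : Σ i : D.Piece d, PRing i.1.2 →ₐ[k] K, (fam' p.1).map (bc p.2) = I := by
  classical
  have hpun' : m.map (Algebra.TensorProduct.includeRight : B →ₐ[k] K ⊗[k] B) ≤ I.radical := hpun
  have hx := D.exists_eq_fam (K := K) hfg I hpun'
  obtain ⟨v, S, a, h, hu, hI⟩ := hx
  have hne : ∀ j, (Finset.univ.filter fun l : ↥S => row S a l ⟨j, ⟨0, D.hc j⟩⟩ ≠ 0).Nonempty := fun j => by
    obtain ⟨l, hl⟩ := hu j; exact ⟨l, by simp [hl]⟩
  let u : Fin D.s → ↥S := fun j => (Finset.univ.filter fun l : ↥S => row S a l ⟨j, ⟨0, D.hc j⟩⟩ ≠ 0).min' (hne j)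
  let shp : D.Shape := ⟨fun j => ⟨min (v j) (D.c j), Nat.lt_succ_of_le (min_le_right _ _)⟩, S, u⟩
  have hord : ∀ j, min (v j) (D.c j) = ord shp j := fun j => rfl
  have hu1 : ∀ j, row S a (u j) ⟨j, ⟨0, D.hc j⟩⟩ ≠ 0 := fun j =>
    (Finset.mem_filter.1 (Finset.min'_mem _ (hne j))).2
  obtain ⟨χ, hχ⟩ := exists_point shp hord h hu1 fun j l hl => by
    by_contra h0
    exact absurd (show (u j : Win D.c) ≤ l from Finset.min'_le (Finset.univ.filter fun l : ↥S => row S a l ⟨j, ⟨0, D.hc j⟩⟩ ≠ 0) l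
      (Finset.mem_filter.2 ⟨Finset.mem_univ _, h0⟩)) (not_le.2 hl)
  have hd : (∑ j, v j) + D.q = d + S.card := by
    obtain ⟨-, -, h3⟩ := h.quotient D
    have h4 := h3 (IsLocalRing.closedPoint K)
    rw [Module.rankAtStalk_eq_finrank_of_free, hI] at h4
    simp only [Pi.natCast_apply, Nat.cast_id] at h4
    rw [hrank] at h4
    omega
  have hnt : Nontrivial (PRing shp) := χ.toRingHom.domain_nontrivial
  let i : D.Piece d := ⟨(v, shp), hord, hd, hnt⟩
  have e : ((isPiece_aP shp hord).map D χ).fam D = I := by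
    subst hI
    congr 1
    · exact funext hχ
  refine ⟨⟨i, χ⟩, (map_fam' i χ).trans e, ?_⟩
  rintro ⟨⟨⟨v', ⟨w', S', u'⟩⟩, hp'⟩, χ'⟩ he
  have he' : ((isPiece_aP (w', ⟨S', u'⟩) hp'.1).map D χ').fam D = h.fam D := ((map_fam' _ χ').symm.trans he).trans hI.symm
  have hrow : ∀ l x, χ' (row S' (aP (w', ⟨S', u'⟩)) l x) = row S' (fun y => χ' (aP (w', ⟨S', u'⟩) y)) l x :=
    fun l x => row_map χ'.toRingHom _ _ l x
  have hu'1 : ∀ j, row S' (fun y => χ' (aP (w', ⟨S', u'⟩) y)) (u' j) ⟨j, ⟨0, D.hc j⟩⟩ ≠ 0 := fun j => by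
    rw [← hrow]
    exact ((isUnit_row_aP (w', ⟨S', u'⟩) j).map χ').ne_zero
  obtain ⟨hvv, hspan⟩ := IsPiece.eq_of_fam D ((isPiece_aP (w', ⟨S', u'⟩) hp'.1).map D χ') h
    (fun j => ⟨u' j, hu'1 j⟩) hu he'
  obtain rfl : v' = v := hvv
  obtain rfl : S' = S := by
    have := lead_cellSpan S' (fun y => χ' (aP (w', ⟨S', u'⟩) y))
    rw [hspan, lead_cellSpan] at this
    exact this.symm
  have ha' : (fun y => χ' (aP (w', ⟨S', u'⟩) y)) = a := cell_injective hspan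
  obtain rfl : w' = shp.1 := funext fun j => Fin.ext ((hp'.1 j).symm.trans (hord j))
  obtain rfl : u' = u := funext fun j => by
    have h1 : (u j : Win D.c) ≤ u' j := Finset.min'_le
      (Finset.univ.filter fun l : ↥S' => row S' a l ⟨j, ⟨0, D.hc j⟩⟩ ≠ 0) (u' j)
      (Finset.mem_filter.2 ⟨Finset.mem_univ _, ha' ▸ hu'1 j⟩)
    refine Subtype.ext (le_antisymm ?_ h1)
    by_contra hlt
    have := congrArg χ' (row_aP_of_lt (shp.1, ⟨S', u'⟩) j (u j) (not_le.1 hlt))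
    rw [map_zero, hrow, ha'] at this
    exact hu1 j this
  rw [Sigma.mk.injEq]
  exact ⟨rfl, heq_of_eq (point_ext shp fun x => (congrFun ha' x).trans (hχ x).symm)⟩

end Groth.Agent.H27CurveSing.Data
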