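import Mathlib

/-! # Windows of tuples of power series -/

set_option autoImplicit false
set_option linter.style.haveILetI false

universe v

open PowerSeries

namespace Groth.Agent.H27CurveSing

variable {s : ℕ}

/-- The positions of a window. -/
def Win (c : Fin s → ℕ) : Type := Σ j : Fin s, Fin (c j)

instance fintypeWin (c : Fin s → ℕ) : Fintype (Win c) := inferInstanceAs (Fintype (Σ j : Fin s, Fin (c j)))

lemma card_win (c : Fin s → ℕ) : Fintype.card (Win c) = ∑ j, c j := by
  show Fintype.card (Σ j : Fin s, Fin (c j)) = _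
  simp

noncomputable instance linearOrderWin (c : Fin s → ℕ) : LinearOrder (Win c) :=
  LinearOrder.lift' (Fintype.equivFin (Win c)) (Equiv.injective _)

variable {A : Type v} [CommRing A]

variable (A) in
/-- The first coefficients. -/
noncomputable def trunc (c : Fin s → ℕ) : (Fin s → A⟦X⟧) →ₗ[A] (Win c → A) :=
  LinearMap.pi fun x => (coeff x.2.1) ∘ₗ LinearMap.proj x.1

@[simp] lemma trunc_apply (c : Fin s → ℕ) (g : Fin s → A⟦X⟧) (x : Win c) : trunc A c g x = coeff x.2.1 (g x.1) := rfl

variable (A) in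
/-- The coefficients of a window placed at `v`. -/
noncomputable def win (c v : Fin s → ℕ) : (Fin s → A⟦X⟧) →ₗ[A] (Win c → A) :=
  LinearMap.pi fun x => (coeff (x.2.1 + v x.1)) ∘ₗ LinearMap.proj x.1

@[simp] lemma win_apply (c v : Fin s → ℕ) (g : Fin s → A⟦X⟧) (x : Win c) :
    win A c v g x = coeff (x.2.1 + v x.1) (g x.1) := rfl

variable (A) in
/-- A window as a tuple of polynomials. -/
noncomputable def lift (c : Fin s → ℕ) : (Win c → A) →ₗ[A] (Fin s → A⟦X⟧) where
  toFun y j := PowerSeries.mk fun i => if h : i < c j then y ⟨j, ⟨i, h⟩⟩ else 0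
  map_add' y y' := by
    funext j; ext i
    by_cases h : i < c j <;> simp [h]
  map_smul' r y := by
    funext j; ext i
    by_cases h : i < c j <;> simp [h]

lemma trunc_lift (c : Fin s → ℕ) (y : Win c → A) : trunc A c (lift A c y) = y := by
  funext x
  simp [lift, x.2.2]

lemma coeff_lift_of_le (c : Fin s → ℕ) (y : Win c → A) {j : Fin s} {i : ℕ} (h : c j ≤ i) :
    coeff i (lift A c y j) = 0 := by
  simp [lift, not_lt.2 h]

variable (A) in
/-- Multiplication by powers of the parameters. -/
noncomputable def sh (v : Fin s → ℕ) : (Fin s → A⟦X⟧) →ₗ[A] (Fin s → A⟦X⟧) :=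
  LinearMap.pi fun j => LinearMap.mulLeft A (X ^ v j) ∘ₗ LinearMap.proj j

@[simp] lemma sh_apply (v : Fin s → ℕ) (g : Fin s → A⟦X⟧) (j : Fin s) : sh A v g j = X ^ v j * g j := rfl

lemma win_sh (c v : Fin s → ℕ) (g : Fin s → A⟦X⟧) : win A c v (sh A v g) = trunc A c g := by
  funext x
  simp [coeff_X_pow_mul]

lemma eq_sh {v : Fin s → ℕ} {g : Fin s → A⟦X⟧} (hg : ∀ j, ∀ i < v j, coeff i (g j) = 0) :
    ∃ g', g = sh A v g' := by
  choose q hq using fun j => (X_pow_dvd_iff).2 (hg j)
  exact ⟨q, funext fun j => hq j⟩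

variable (A) in
/-- Multiplication of windows. -/
noncomputable def mulW (c : Fin s → ℕ) (x y : Win c → A) : Win c → A := trunc A c (lift A c x * lift A c y)

lemma X_pow_dvd_sub_lift (c : Fin s → ℕ) (f : Fin s → A⟦X⟧) (j : Fin s) :
    X ^ c j ∣ f j - lift A c (trunc A c f) j := by
  rw [X_pow_dvd_iff]
  intro i hi
  simp [lift, hi]

lemma trunc_eq_of_dvd {c : Fin s → ℕ} {f g : Fin s → A⟦X⟧} (h : ∀ j, X ^ c j ∣ f j - g j) :
    trunc A c f = trunc A c g := by
  funext x
  have := X_pow_dvd_iff.1 (h x.1) x.2.1 x.2.2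
  rwa [map_sub, sub_eq_zero] at this

lemma trunc_mul (c : Fin s → ℕ) (f g : Fin s → A⟦X⟧) :
    trunc A c (f * g) = mulW A c (trunc A c f) (trunc A c g) := by
  refine trunc_eq_of_dvd fun j => ?_
  simp only [Pi.mul_apply]
  have e : f j * g j - lift A c (trunc A c f) j * lift A c (trunc A c g) j =
      (f j - lift A c (trunc A c f) j) * g j + lift A c (trunc A c f) j * (g j - lift A c (trunc A c g) j) := by ring
  rw [e]
  exact dvd_add (dvd_mul_of_dvd_left (X_pow_dvd_sub_lift c f j) _) (dvd_mul_of_dvd_right (X_pow_dvd_sub_lift c g j) _)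

lemma win_mul_sh (c v : Fin s → ℕ) (f g : Fin s → A⟦X⟧) :
    win A c v (f * sh A v g) = mulW A c (trunc A c f) (trunc A c g) := by
  rw [← trunc_mul, ← win_sh c v (f * g)]
  congr 1
  funext j
  simp [mul_left_comm]

lemma mulW_add_left (c : Fin s → ℕ) (x x' y : Win c → A) :
    mulW A c (x + x') y = mulW A c x y + mulW A c x' y := by
  simp only [mulW, map_add, add_mul]

lemma mulW_smul_left (c : Fin s → ℕ) (r : A) (x y : Win c → A) : mulW A c (r • x) y = r • mulW A c x y := by
  simp only [mulW, map_smul, smul_mul_assoc]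

lemma mulW_smul_right (c : Fin s → ℕ) (r : A) (x y : Win c → A) : mulW A c x (r • y) = r • mulW A c x y := by
  simp only [mulW, map_smul, mul_smul_comm]

lemma mulW_add_right (c : Fin s → ℕ) (x y y' : Win c → A) :
    mulW A c x (y + y') = mulW A c x y + mulW A c x y' := by
  simp only [mulW, map_add, mul_add]

variable (A) in
/-- Shifting a window. -/
noncomputable def shW (c v : Fin s → ℕ) : (Win c → A) →ₗ[A] (Win c → A) := trunc A c ∘ₗ sh A v ∘ₗ lift A c

lemma trunc_sh (c v : Fin s → ℕ) (g : Fin s → A⟦X⟧) : trunc A c (sh A v g) = shW A c v (trunc A c g) := by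
  show trunc A c (sh A v g) = trunc A c (sh A v (lift A c (trunc A c g)))
  refine trunc_eq_of_dvd fun j => ?_
  rw [sh_apply, sh_apply, ← mul_sub]
  exact dvd_mul_of_dvd_right (X_pow_dvd_sub_lift c g j) _

lemma shW_min (c v : Fin s → ℕ) : shW A c v = shW A c fun j => min (v j) (c j) := by
  refine LinearMap.ext fun y => funext fun x => ?_
  simp only [shW, LinearMap.coe_comp, Function.comp_apply, trunc_apply, sh_apply, coeff_X_pow_mul']
  rcases le_or_gt (c x.1) (v x.1) with h | h
  · have := x.2.2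
    rw [if_neg (by omega), if_neg (by omega)]
  · rw [min_eq_left h.le]

section map

variable {A' : Type v} [CommRing A'] (χ : A →+* A')

/-- The map on tuples of power series. -/
noncomputable def mapS : (Fin s → A⟦X⟧) →+* (Fin s → A'⟦X⟧) :=
  RingHom.pi fun j => (PowerSeries.map χ).comp (Pi.evalRingHom _ j)

@[simp] lemma mapS_apply (g : Fin s → A⟦X⟧) (j : Fin s) : mapS χ g j = PowerSeries.map χ (g j) := rfl

lemma trunc_mapS (c : Fin s → ℕ) (g : Fin s → A⟦X⟧) (x : Win c) :
    trunc A' c (mapS χ g) x = χ (trunc A c g x) := by simp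

lemma win_mapS (c v : Fin s → ℕ) (g : Fin s → A⟦X⟧) (x : Win c) :
    win A' c v (mapS χ g) x = χ (win A c v g x) := by simp

lemma mapS_lift (c : Fin s → ℕ) (y : Win c → A) :
    mapS χ (lift A c y) = lift A' c fun x => χ (y x) := by
  funext j; ext i
  by_cases h : i < c j <;> simp [lift, h]

lemma mapS_sh (v : Fin s → ℕ) (g : Fin s → A⟦X⟧) : mapS χ (sh A v g) = sh A' v (mapS χ g) := by
  funext j; simp

lemma shW_map (c v : Fin s → ℕ) (y : Win c → A) (x : Win c) :
    χ (shW A c v y x) = shW A' c v (fun x => χ (y x)) x := by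
  simp only [shW, LinearMap.coe_comp, Function.comp_apply]
  rw [← trunc_mapS, mapS_sh, mapS_lift]

lemma mulW_map (c : Fin s → ℕ) (y z : Win c → A) (x : Win c) :
    χ (mulW A c y z x) = mulW A' c (fun x => χ (y x)) (fun x => χ (z x)) x := by
  simp only [mulW]
  rw [← trunc_mapS, map_mul, mapS_lift, mapS_lift]

end map

end Groth.Agent.H27CurveSing
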